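import Cfsg.Agent.H379.TD.SylThree

/-!
# All 3-elements of `³D₄(2)` have the property `Prop3`
-/

set_option autoImplicit false

namespace Cfsg.Agent.H379.TD

open Cfsg.Agent.TypeD4Two Module

theorem fix_pow {w : M} {v : V} (h : ap w v = v) (n : ℕ) : ap (w ^ n) v = v := by
  rw [ap_pow]
  exact pow_fix h n

theorem no_fix_x {v : V} (h : ap x v = v) : v = 0 := by
  rw [x, ap_wm] at h
  exact no_fix (n := 9) (by decide) (by decide +kernel) h

theorem prop3_xpow {i : ℕ} (hi : i % 3 ≠ 0) : Prop3 (x ^ i) := by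
  left
  intro v hv
  have h1 : ∀ r < 9, r % 3 ≠ 0 → ∃ m < 9, r * m % 9 = 1 := by decide
  obtain ⟨m, -, hm⟩ := h1 (i % 9) (Nat.mod_lt _ (by norm_num)) (by omega)
  have h2 : x ^ (i * m) = x := by
    rw [pow_eq_pow_mod (i * m) x_pow, Nat.mul_mod, ← Nat.mul_mod]
    have : i * m % 9 = 1 := by rw [← hm, Nat.mod_mul_mod]
    rw [this, pow_one]
  have h3 := fix_pow hv m
  rw [← pow_mul, h2] at h3
  exact no_fix_x h3

/-- conjugation in the Sylow subgroup -/
theorem prop3_of_mul {a b c : M} (h : a * b = c * a) (hb : Prop3 b) : Prop3 c := by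
  have : c = a * b * a⁻¹ := by rw [h, mul_inv_cancel_right]
  rw [this]
  exact hb.conj a

theorem F_zero (i j : ℕ) : F i j 0 = x ^ i * x0 ^ j := by simp [F]

theorem F_mul_y (i j k m : ℕ) : F i j k * y ^ m = F i j (k + m) := by
  unfold F
  rw [pow_add]
  simp only [mul_assoc]

theorem F_congr {i j k i' j' k' : ℕ} (hi : i % 9 = i' % 9) (hj : j % 3 = j' % 3) (hk : k % 3 = k' % 3) :
    F i j k = F i' j' k' := by
  rw [F_mod i j k, F_mod i' j' k', hi, hj, hk]

theorem prop3_F0 (i j : ℕ) (h : F i j 0 ≠ 1) : Prop3 (F i j 0) := by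
  by_cases hi : i % 3 = 0
  · by_cases hj : j % 3 = 0
    · have e : F i j 0 = (x ^ 3) ^ (i / 3) := by
        rw [F_congr (i' := i) (j' := 0) (k' := 0) rfl (by omega) rfl, F_zero, pow_zero, mul_one, ← pow_mul]
        congr 1
        omega
      have h3 : (x ^ 3) ^ 3 = 1 := by rw [← pow_mul]; exact x_pow
      rw [e] at h ⊢
      rw [pow_eq_pow_mod (i / 3) h3] at h ⊢
      have h4 : i / 3 % 3 = 0 ∨ i / 3 % 3 = 1 ∨ i / 3 % 3 = 2 := by omega
      rcases h4 with h4 | h4 | h4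
      · rw [h4] at h; exact absurd (pow_zero _) h
      · rw [h4, pow_one]; exact prop3_x3
      · have : (x ^ 3) ^ 2 = (x ^ 3)⁻¹ := by
          rw [eq_inv_iff_mul_eq_one, ← pow_succ, h3]
        rw [h4, this]
        exact prop3_x3.inv
    · have hx0 : ∀ r, r % 3 ≠ 0 → Prop3 (x0 ^ r) := by
        intro r hr
        rw [pow_eq_pow_mod r x0_pow]
        have h4 : r % 3 = 1 ∨ r % 3 = 2 := by omega
        rcases h4 with h4 | h4
        · rw [h4, pow_one]; exact prop3_x0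
        · have : x0 ^ 2 = x0⁻¹ := by
            rw [eq_inv_iff_mul_eq_one, ← pow_succ, x0_pow]
          rw [h4, this]
          exact prop3_x0.inv
      have key : ∀ (a : Fin 9) (b : Fin 3), a.1 % 3 = 0 → b.1 % 3 ≠ 0 → ∃ r : Fin 3, r.1 % 3 ≠ 0 ∧
          ((a.1 = 0 ∧ r.1 = b.1) ∨ (3 * r.1 % 9 = a.1 ∧ r.1 % 3 = b.1) ∨
          ((4 * (3 * r.1) + 3 * r.1) % 9 = a.1 ∧ (2 * (3 * r.1) + r.1) % 3 = b.1)) := by decide
      obtain ⟨⟨r, hr9⟩, hr, hc⟩ := key ⟨i % 9, Nat.mod_lt _ (by norm_num)⟩ ⟨j % 3, Nat.mod_lt _ (by norm_num)⟩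
        (by simp only; omega) (by simp only; omega)
      simp only at hr hc
      have e0 : x0 ^ r = F 0 r 0 := by rw [F_zero, pow_zero, one_mul]
      have e1 : y * x0 ^ r = F (3 * r) r 1 := by
        rw [e0, y_mul]
        exact F_congr (by omega) (by omega) rfl
      rcases hc with ⟨h1, h2⟩ | ⟨h1, h2⟩ | ⟨h1, h2⟩
      · have : F i j 0 = x0 ^ r := by rw [e0]; exact F_congr (by omega) (by omega) rfl
        rw [this]; exact hx0 r hr
      · refine prop3_of_mul (a := y) (b := x0 ^ r) ?_ (hx0 r hr)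
        rw [e1]
        have := F_mul_y i j 0 1
        rw [pow_one] at this
        rw [this]
        exact F_congr (by omega) (by omega) rfl
      · refine prop3_of_mul (a := y ^ 2) (b := x0 ^ r) ?_ (hx0 r hr)
        rw [pow_two, mul_assoc, e1, y_mul, ← pow_two, F_mul_y]
        exact F_congr (by omega) (by omega) rfl
  · have key : ∀ (a : Fin 9) (b : Fin 3), a.1 % 3 ≠ 0 → ∃ r : Fin 9, r.1 % 3 ≠ 0 ∧
        ((b.1 = 0 ∧ r.1 = a.1) ∨ (4 * r.1 % 9 = a.1 ∧ 2 * r.1 % 3 = b.1) ∨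
        ((4 * (4 * r.1) + 3 * (2 * r.1)) % 9 = a.1 ∧ (2 * (4 * r.1) + 2 * r.1) % 3 = b.1)) := by
      decide
    obtain ⟨⟨r, hr9⟩, hr, hc⟩ := key ⟨i % 9, Nat.mod_lt _ (by norm_num)⟩ ⟨j % 3, Nat.mod_lt _ (by norm_num)⟩
      (by simp only; omega)
    simp only at hr hc
    have e0 : x ^ r = F r 0 0 := by rw [F_zero, pow_zero, mul_one]
    have e1 : y * x ^ r = F (4 * r) (2 * r) 1 := by
      rw [e0, y_mul]
      exact F_congr (by omega) (by omega) rfl
    rcases hc with ⟨h1, h2⟩ | ⟨h1, h2⟩ | ⟨h1, h2⟩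
    · have : F i j 0 = x ^ r := by rw [e0]; exact F_congr (by omega) (by omega) rfl
      rw [this]; exact prop3_xpow hr
    · refine prop3_of_mul (a := y) (b := x ^ r) ?_ (prop3_xpow hr)
      rw [e1]
      have := F_mul_y i j 0 1
      rw [pow_one] at this
      rw [this]
      exact F_congr (by omega) (by omega) rfl
    · refine prop3_of_mul (a := y ^ 2) (b := x ^ r) ?_ (prop3_xpow hr)
      rw [pow_two, mul_assoc, e1, y_mul, ← pow_two, F_mul_y]
      exact F_congr (by omega) (by omega) rfl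

theorem prop3_y : Prop3 y := by
  rw [y_eq]
  exact prop3_x0.conj _

theorem prop3_F1 (i j : ℕ) : Prop3 (F i j 1) := by
  have key : ∀ a < 9, ∀ b < 3, ∃ s < 9, ∃ t < 3, (a + s) % 9 = (a % 3 + (4 * s + 3 * t)) % 9 ∧
      (b + t) % 3 = (2 * s + t) % 3 := by decide
  obtain ⟨s, -, t, -, h1, h2⟩ := key (i % 9) (Nat.mod_lt _ (by norm_num)) (j % 3) (Nat.mod_lt _ (by norm_num))
  have hb : Prop3 (x ^ (i % 3) * y) := by
    have h4 : i % 3 = 0 ∨ i % 3 = 1 ∨ i % 3 = 2 := by omega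
    rcases h4 with h4 | h4 | h4
    · rw [h4, pow_zero, one_mul]; exact prop3_y
    · rw [h4, pow_one]; exact prop3_xy
    · rw [h4]; exact prop3_xxy
  have e1 : x ^ s * x0 ^ t * F i j 1 = F (i + s) (j + t) 1 := by
    rw [mul_assoc, x0p_mul, xp_mul]
  have e2 : x ^ (i % 3) * y * (x ^ s * x0 ^ t) = F (4 * s + 3 * t + i % 3) (2 * s + t) 1 := by
    rw [← F_zero, mul_assoc, y_mul, xp_mul]
  refine prop3_of_mul (a := (x ^ s * x0 ^ t)⁻¹) (b := x ^ (i % 3) * y) ?_ hb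
  rw [inv_mul_eq_iff_eq_mul, ← mul_assoc, e1, eq_mul_inv_iff_mul_eq, e2]
  exact F_congr (by omega) (by omega) rfl

theorem prop3_F2 (i j : ℕ) : Prop3 (F i j 2) := by
  have h : F i j 2 = (F (4 * (8 * i) + 3 * (2 * j)) (2 * (8 * i) + 2 * j) 1)⁻¹ := by
    rw [eq_inv_iff_mul_eq_one, ← y_mul, ← mul_assoc]
    have h1 : F i j 2 * y = x ^ i * x0 ^ j := by
      have := F_mul_y i j 2 1
      rw [pow_one] at this
      rw [this, ← F_zero]
      exact F_congr rfl rfl rfl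
    rw [h1, mul_assoc, x0p_mul, xp_mul, F_congr (i' := 0) (j' := 0) (k' := 0) (by omega) (by omega) rfl, F_zero]
    simp
  rw [h]
  exact (prop3_F1 _ _).inv

theorem prop3_F (i j k : ℕ) (h : F i j k ≠ 1) : Prop3 (F i j k) := by
  rw [F_congr (i' := i) (j' := j) (k' := k % 3) rfl rfl (by omega)] at h ⊢
  have h4 : k % 3 = 0 ∨ k % 3 = 1 ∨ k % 3 = 2 := by omega
  rcases h4 with h4 | h4 | h4
  · rw [h4] at h ⊢; exact prop3_F0 i j h
  · rw [h4]; exact prop3_F1 i j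
  · rw [h4]; exact prop3_F2 i j

/-- All nontrivial 3-elements have the property. -/
theorem prop3_all {w : M} (hw : w ≠ 1) {k : ℕ} (hk : w ^ (3 ^ k) = 1) : Prop3 w := by
  have : Fact (Nat.Prime 3) := ⟨Nat.prime_three⟩
  obtain ⟨g, hg⟩ := conj_mem (p := 3) K3 card_K3 (by rw [card_M]; norm_num) hk
  obtain ⟨i, j, k, h⟩ := form hg
  have h1 : F i j k ≠ 1 := by
    rw [← h]
    intro h2
    exact hw (conj_eq_one_iff.mp h2)
  have h2 := prop3_F i j k h1
  rw [← h] at h2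
  have h3 := h2.conj g⁻¹
  have h4 : g⁻¹ * (g * w * g⁻¹) * g⁻¹⁻¹ = w := by group
  rwa [h4] at h3

end Cfsg.Agent.H379.TD
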