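import Cfsg.Agent.H379.TD.Two

/-!
# The group `8^8 : ³D₄(2)` has the same element orders as `³D₄(2)`
-/

set_option autoImplicit false

namespace Cfsg.Agent.H379.TD

open Cfsg.Agent.TypeD4Two Module

/-- the sum of the first powers -/
noncomputable def S (n : ℕ) (f : Module.End F8 V) : Module.End F8 V := ∑ i ∈ Finset.range n, f ^ i

theorem S_succ (n : ℕ) (f : Module.End F8 V) : S (n + 1) f = S n f + f ^ n := Finset.sum_range_succ _ _

theorem mul_S (n : ℕ) (f : Module.End F8 V) : f * S n f + 1 = S n f + f ^ n := by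
  induction n with
  | zero => simp [S]
  | succ n ih =>
    rw [S_succ, mul_add, ← pow_succ']
    calc f * S n f + f ^ (n + 1) + 1 = (f * S n f + 1) + f ^ (n + 1) := by abel
      _ = _ := by rw [ih]

theorem fix_S {n : ℕ} {f : Module.End F8 V} (h : f ^ n = 1) (v : V) : f (S n f v) = S n f v := by
  have h1 := mul_S n f
  rw [h] at h1
  have h2 := add_right_cancel h1
  exact congrArg (fun F : Module.End F8 V => F v) h2

theorem S_add (m n : ℕ) (f : Module.End F8 V) : S (m + n) f = S m f + f ^ m * S n f := by
  induction n with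
  | zero => simp [S]
  | succ n ih =>
    rw [← add_assoc, S_succ, ih, S_succ, mul_add, pow_add]
    abel

theorem S_mul (m n : ℕ) (f : Module.End F8 V) : S (m * n) f = S m f * S n (f ^ m) := by
  induction n with
  | zero => simp [S]
  | succ n ih =>
    rw [Nat.mul_succ, S_add, ih, S_succ, mul_add, pow_mul]
    congr 1
    have : Commute (f ^ m) (S m f) := by
      unfold S
      apply Commute.sum_right
      intro i _
      exact Commute.pow_pow_self f m i
    exact (this.pow_left n).eq

theorem S_two_mul {f : Module.End F8 V} {v : V} (h : f (f v) = v) (m : ℕ) : S (2 * m) f v = m • (v + f v) := by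
  rw [S_mul]
  have h2 : ∀ i, ((f ^ 2) ^ i) v = v := by
    intro i
    apply pow_fix
    rw [pow_two]
    exact h
  have h3 : S m (f ^ 2) v = m • v := by
    unfold S
    rw [LinearMap.sum_apply, Finset.sum_congr rfl fun i _ => h2 i, Finset.sum_const, Finset.card_range]
  rw [Module.End.mul_apply, h3, map_nsmul]
  congr 1
  simp [S, Finset.sum_range_succ]

theorem even_nsmul {m : ℕ} (h : Even m) (v : V) : m • v = 0 := by
  obtain ⟨r, rfl⟩ := h
  rw [add_smul]
  exact W_add_self _

theorem pow_part {g : M} {n p : ℕ} (hn : orderOf g = n) (hp : p.Prime) (hd : p ∣ n) :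
    g ^ (n / p) ≠ 1 ∧ (g ^ (n / p)) ^ (p ^ 1) = 1 := by
  have hn0 : 0 < n := by rw [← hn]; exact orderOf_pos g
  constructor
  · intro h
    have h1 := orderOf_dvd_of_pow_eq_one h
    rw [hn] at h1
    have h2 := Nat.le_of_dvd (Nat.div_pos (Nat.le_of_dvd hn0 hd) hp.pos) h1
    have h3 := Nat.div_lt_self hn0 hp.one_lt
    omega
  · rw [pow_one, ← pow_mul, Nat.div_mul_cancel hd, ← hn, pow_orderOf_eq_one]

/-- The main point: the orders of the elements with a nonzero trace. -/
theorem order_of_trace {g : M} {v : V} (hv : S (orderOf g) (ap g) v ≠ 0) :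
    orderOf g ∈ ({1, 2, 3, 4, 6, 7} : Finset ℕ) := by
  set n := orderOf g with hn
  have hn' : orderOf g = n := hn.symm
  have hn0 : 0 < n := orderOf_pos g
  have hgn : ap g ^ n = 1 := by rw [← ap_pow, hn, pow_orderOf_eq_one]; rfl
  set v0 := S n (ap g) v with hv0
  have hfix : ap g v0 = v0 := fix_S hgn v
  have hdvd : n ∣ 2 ^ 12 * 3 ^ 4 * 7 ^ 2 * 13 := by
    have h1 := orderOf_dvd_natCard g
    rw [card_M] at h1
    norm_num
    exact h1
  have h13 : ¬ 13 ∣ n := by
    intro hd
    obtain ⟨h1, h2⟩ := pow_part hn' (by norm_num) hd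
    exact hv (thirteen_all h1 h2 (fix_pow hfix _))
  by_cases h7 : 7 ∣ n
  · obtain ⟨h1, h2⟩ := pow_part hn' (by norm_num) h7
    obtain ⟨h3, -⟩ := prop7_all h1 h2
    rcases h3 with h3 | h3
    · exact absurd (h3 _ (fix_pow hfix _)) hv
    · -- the 7'-part of `g` is trivial
      obtain ⟨c, m, hm, hnm⟩ := Nat.exists_eq_pow_mul_and_not_dvd hn0.ne' 7 (by norm_num)
      have hc7 : Nat.Coprime m 7 := ((Nat.Prime.coprime_iff_not_dvd (by norm_num)).mpr hm).symm
      have h4 : g ^ 7 ^ c = 1 := by
        refine h3 (g ^ 7 ^ c) (Commute.pow_pow_self g _ _) m hc7 ?_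
        rw [← pow_mul, ← hnm, ← hn', pow_orderOf_eq_one]
      have hg1 : g ≠ 1 := by
        intro h
        rw [hn, h, orderOf_one] at h7
        norm_num at h7
      obtain ⟨-, h5⟩ := prop7_all hg1 h4
      have : Fact (Nat.Prime 7) := ⟨by norm_num⟩
      have h6 : n = 7 := by rw [hn]; exact orderOf_eq_prime h5 hg1
      rw [h6]
      decide
  · have hdvd2 : n ∣ 2 ^ 12 * 3 ^ 4 := by
      have c1 : Nat.Coprime n 13 := ((Nat.Prime.coprime_iff_not_dvd (by norm_num)).mpr h13).symm
      have c2 : Nat.Coprime n (7 ^ 2) := (((Nat.Prime.coprime_iff_not_dvd (by norm_num)).mpr h7).symm).pow_right 2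
      exact c2.dvd_of_dvd_mul_right (c1.dvd_of_dvd_mul_right hdvd)
    obtain ⟨k1, k2, hk1, hk2, hk12⟩ := Nat.dvd_mul.mp hdvd2
    obtain ⟨a, ha, rfl⟩ := (Nat.dvd_prime_pow Nat.prime_two).mp hk1
    obtain ⟨b, hb, rfl⟩ := (Nat.dvd_prime_pow Nat.prime_three).mp hk2
    have hgn1 : g ^ n = 1 := by rw [hn, pow_orderOf_eq_one]
    by_cases hb0 : b = 0
    · -- 2-elements
      subst hb0
      rw [pow_zero, mul_one] at hk12
      have h1 : g ^ (2 ^ a) = 1 := by rw [hk12, hgn1]
      obtain ⟨h2, h3⟩ := two_all h1
      have h4 : n ∣ 2 ^ 3 := by rw [hn]; exact orderOf_dvd_of_pow_eq_one h3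
      obtain ⟨c, hc, h5⟩ := (Nat.dvd_prime_pow Nat.prime_two).mp h4
      have h6 : n ≠ 8 := by
        intro h8
        apply hv
        have h9 : S 8 (ap g) = (ap g + 1) ^ 7 := by
          have e1 : S 8 (ap g) = S 2 (ap g) * (S 2 (ap g ^ 2) * S 2 (ap g ^ 4)) := by
            have := S_mul 2 4 (ap g)
            rw [show 2 * 4 = 8 from rfl] at this
            rw [this]
            have h10 := S_mul 2 2 (ap g ^ 2)
            rw [show 2 * 2 = 4 from rfl, ← pow_mul] at h10
            rw [h10]
          have e2 : ∀ f : Module.End F8 V, S 2 f = f + 1 := by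
            intro f
            simp [S, Finset.sum_range_succ, add_comm]
          have e3 : ap g ^ 2 + 1 = (ap g + 1) ^ 2 := (add_one_pow two_End (ap g) 1).symm
          have e4 : ap g ^ 4 + 1 = (ap g + 1) ^ 4 := (add_one_pow two_End (ap g) 2).symm
          rw [e1, e2, e2, e2, e3, e4, ← pow_add, ← pow_succ']
        rw [hv0, h8, h9, h2]
        rfl
      have h7' : c < 4 := by omega
      have h8 : c = 0 ∨ c = 1 ∨ c = 2 ∨ c = 3 := by omega
      rcases h8 with rfl | rfl | rfl | rfl
      · rw [h5]; decide
      · rw [h5]; decide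
      · rw [h5]; decide
      · exact absurd h5 h6
    · -- the 3-part is nontrivial
      have hw1 : g ^ (2 ^ a) ≠ 1 := by
        intro h
        have h1 := orderOf_dvd_of_pow_eq_one h
        rw [hn', ← hk12] at h1
        have h2 : 3 ∣ 2 ^ a := ((dvd_pow_self 3 hb0).trans (dvd_mul_left _ _)).trans h1
        have h3 := Nat.prime_three.dvd_of_dvd_pow h2
        norm_num at h3
      have hw3 : (g ^ (2 ^ a)) ^ (3 ^ b) = 1 := by rw [← pow_mul, hk12, hgn1]
      rcases prop3_all hw1 hw3 with h1 | ⟨h1, h2⟩
      · exact absurd (h1 _ (fix_pow hfix _)) hv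
      · have hb1 : n ∣ 2 ^ a * 3 := by
          rw [hn]
          apply orderOf_dvd_of_pow_eq_one
          rw [pow_mul]
          exact h1
        have hb2 : b = 1 := by
          rw [← hk12] at hb1
          have h3 : 3 ^ b ∣ 3 := Nat.dvd_of_mul_dvd_mul_left (by positivity) hb1
          have h4 : 3 ^ b ≤ 3 ^ 1 := Nat.le_of_dvd (by norm_num) h3
          have h5 : b ≤ 1 := (Nat.pow_le_pow_iff_right (by norm_num)).mp h4
          omega
        subst hb2
        rw [pow_one] at hk12
        by_cases ha2 : a < 2
        · have h8 : a = 0 ∨ a = 1 := by omega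
          rcases h8 with rfl | rfl
          · rw [← hk12]; decide
          · rw [← hk12]; decide
        · exfalso
          apply hv
          set v1 := S 3 (ap g ^ 2 ^ a) v with hv1
          have e1 : v0 = S (2 ^ a) (ap g) v1 := by
            rw [hv0, ← hk12, S_mul]
            rfl
          have hw : ap (g ^ 2 ^ a) v1 = v1 := by
            rw [hv1, ← ap_pow]
            apply fix_S
            rw [← ap_pow, h1]
            rfl
          have hu : ap (g ^ 6) v1 = v1 := by
            have h3 := h2 (g ^ 3) (Commute.pow_pow_self g _ _) ⟨a, by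
              rw [← pow_mul, mul_comm, hk12, hgn1]⟩ v1 hw
            rw [← ap_mul, ← pow_add] at h3
            exact h3
          have hg2 : ap (g ^ 2) v1 = v1 := by
            have h3 : 2 ^ a % 6 = 2 ∨ 2 ^ a % 6 = 4 := by
              obtain ⟨r, rfl⟩ := Nat.exists_eq_add_of_le (not_lt.mp ha2)
              clear * -
              induction r with
              | zero => right; norm_num
              | succ r ih =>
                rw [← add_assoc, pow_succ]
                omega
            have h4 := Nat.div_add_mod (2 ^ a) 6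
            have h5 : g ^ 2 ^ a = g ^ (2 ^ a % 6) * (g ^ 6) ^ (2 ^ a / 6) := by
              rw [← pow_mul, ← pow_add]
              congr 1
              omega
            rw [h5, ap_mul, fix_pow hu] at hw
            rcases h3 with h3 | h3
            · rwa [h3] at hw
            · rw [h3] at hw
              have h6 : ap (g ^ 2) (ap (g ^ 4) v1) = v1 := by
                rw [← ap_mul, ← pow_add]
                exact hu
              rwa [hw] at h6
          have hgg : ap g (ap g v1) = v1 := by
            rw [← ap_mul, ← pow_two]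
            exact hg2
          obtain ⟨r, rfl⟩ := Nat.exists_eq_add_of_le (not_lt.mp ha2)
          have e2 : 2 ^ (2 + r) = 2 * (2 * 2 ^ r) := by rw [pow_add]; ring
          rw [e1, e2, S_two_mul hgg]
          exact even_nsmul (even_two_mul _) _

/-- elements of orders 8, 12, 14 -/
theorem order8 : orderOf (wm [4, 1]) = 8 := by
  have h1 : wm [4, 1] ^ 2 ^ (2 + 1) = 1 := by rw [← wm_wp]; exact wm_one (by decide +kernel)
  have h2 : ¬ wm [4, 1] ^ 2 ^ 2 = 1 := by
    intro h
    rw [← wm_wp] at h
    have h3 : ∃ i j : Fin 8, ent (wv (wp [4, 1] (2 ^ 2))) i j ≠ ent (wv []) i j := by decide +kernel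
    obtain ⟨i, j, h4⟩ := h3
    exact h4 (wm_inj (l' := []) h i j)
  have : Fact (Nat.Prime 2) := ⟨Nat.prime_two⟩
  exact orderOf_eq_prime_pow h2 h1

theorem order12 : orderOf (wm [3, 2, 1]) = 12 := by
  apply orderOf_eq_of_pow_and_pow_div_prime (by norm_num)
  · rw [← wm_wp]; exact wm_one (by decide +kernel)
  · intro p hp hd h
    have hp2 : p = 2 ∨ p = 3 := by
      have : p ∣ 2 ^ 2 * 3 := by norm_num; exact hd
      rcases hp.dvd_mul.mp this with h1 | h1
      · left; exact (Nat.prime_dvd_prime_iff_eq hp Nat.prime_two).mp (hp.dvd_of_dvd_pow h1)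
      · right; exact (Nat.prime_dvd_prime_iff_eq hp Nat.prime_three).mp h1
    rcases hp2 with rfl | rfl
    · rw [← wm_wp] at h
      have h3 : ∃ i j : Fin 8, ent (wv (wp [3, 2, 1] (12 / 2))) i j ≠ ent (wv []) i j := by decide +kernel
      obtain ⟨i, j, h4⟩ := h3
      exact h4 (wm_inj (l' := []) h i j)
    · rw [← wm_wp] at h
      have h3 : ∃ i j : Fin 8, ent (wv (wp [3, 2, 1] (12 / 3))) i j ≠ ent (wv []) i j := by decide +kernel
      obtain ⟨i, j, h4⟩ := h3
      exact h4 (wm_inj (l' := []) h i j)

theorem order14 : orderOf (wm [3, 0]) = 14 := by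
  apply orderOf_eq_of_pow_and_pow_div_prime (by norm_num)
  · rw [← wm_wp]; exact wm_one (by decide +kernel)
  · intro p hp hd h
    have hp2 : p = 2 ∨ p = 7 := by
      have : p ∣ 2 * 7 := by norm_num; exact hd
      rcases hp.dvd_mul.mp this with h1 | h1
      · left; exact (Nat.prime_dvd_prime_iff_eq hp Nat.prime_two).mp h1
      · right; exact (Nat.prime_dvd_prime_iff_eq hp (by norm_num)).mp h1
    rcases hp2 with rfl | rfl
    · rw [← wm_wp] at h
      have h3 : ∃ i j : Fin 8, ent (wv (wp [3, 0] (14 / 2))) i j ≠ ent (wv []) i j := by decide +kernel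
      obtain ⟨i, j, h4⟩ := h3
      exact h4 (wm_inj (l' := []) h i j)
    · rw [← wm_wp] at h
      have h3 : ∃ i j : Fin 8, ent (wv (wp [3, 0] (14 / 7))) i j ≠ ent (wv []) i j := by decide +kernel
      obtain ⟨i, j, h4⟩ := h3
      exact h4 (wm_inj (l' := []) h i j)

theorem range_of_dvd {G : Type*} [Monoid G] (g : G) {m n : ℕ} (hg : orderOf g = m) (hm : 0 < m) (hn : n ∣ m) :
    n ∈ Set.range (orderOf : G → ℕ) := by
  obtain ⟨k, rfl⟩ := hn
  have hk : 0 < k := Nat.pos_of_mul_pos_left hm
  refine ⟨g ^ k, ?_⟩
  rw [orderOf_pow_of_dvd hk.ne' (by rw [hg]; exact dvd_mul_left _ _), hg, Nat.mul_div_cancel _ hk]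

theorem double_mem {n : ℕ} (h : n ∈ ({1, 2, 3, 4, 6, 7} : Finset ℕ)) :
    2 * n ∈ Set.range (orderOf : M → ℕ) := by
  have h' : n = 1 ∨ n = 2 ∨ n = 3 ∨ n = 4 ∨ n = 6 ∨ n = 7 := by simpa using h
  rcases h' with rfl | rfl | rfl | rfl | rfl | rfl
  · exact range_of_dvd _ order8 (by norm_num) (by norm_num)
  · exact range_of_dvd _ order8 (by norm_num) (by norm_num)
  · exact range_of_dvd _ order12 (by norm_num) (by norm_num)
  · exact range_of_dvd _ order8 (by norm_num) (by norm_num)
  · exact range_of_dvd _ order12 (by norm_num) (by norm_num)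
  · exact range_of_dvd _ order14 (by norm_num) (by norm_num)

/-- the action on the multiplicative group -/
noncomputable def φ : M →* MulAut (Multiplicative V) where
  toFun g :=
    { toFun := fun v => Multiplicative.ofAdd (ap g (Multiplicative.toAdd v))
      invFun := fun v => Multiplicative.ofAdd (ap g⁻¹ (Multiplicative.toAdd v))
      left_inv := by
        intro v
        apply Multiplicative.toAdd.injective
        exact ap_inv_ap g _
      right_inv := by
        intro v
        apply Multiplicative.toAdd.injective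
        exact ap_ap_inv g _
      map_mul' := by
        intro v w
        apply Multiplicative.toAdd.injective
        exact map_add (ap g) _ _ }
  map_one' := by
    ext v : 1
    rfl
  map_mul' := by
    intro g h
    ext v : 1
    rfl

/-- the extension -/
abbrev B : Type := Multiplicative V ⋊[φ] M

theorem pow_right (b : B) (n : ℕ) : (b ^ n).right = b.right ^ n := by
  induction n with
  | zero => rfl
  | succ n ih => rw [pow_succ, pow_succ, SemidirectProduct.mul_right, ih]

theorem pow_left (b : B) (n : ℕ) :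
    Multiplicative.toAdd (b ^ n).left = S n (ap b.right) (Multiplicative.toAdd b.left) := by
  induction n with
  | zero =>
    show (0 : V) = _
    simp [S]
  | succ n ih =>
    rw [pow_succ, SemidirectProduct.mul_left, S_succ, LinearMap.add_apply, ← ih, pow_right, ← ap_pow]
    rfl

theorem range_B : Set.range (orderOf : B → ℕ) = Set.range (orderOf : M → ℕ) := by
  ext m
  constructor
  · rintro ⟨b, rfl⟩
    have hdvd : orderOf b.right ∣ orderOf b := by
      rw [orderOf_dvd_iff_pow_eq_one, ← pow_right, pow_orderOf_eq_one]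
      rfl
    by_cases hS : S (orderOf b.right) (ap b.right) (Multiplicative.toAdd b.left) = 0
    · have h1 : b ^ orderOf b.right = 1 := by
        apply SemidirectProduct.ext
        · apply Multiplicative.toAdd.injective
          rw [pow_left, hS]
          rfl
        · rw [pow_right, pow_orderOf_eq_one]
          rfl
      exact ⟨b.right, Nat.dvd_antisymm hdvd (orderOf_dvd_of_pow_eq_one h1)⟩
    · have h1 := order_of_trace hS
      have h2 := double_mem h1
      have h3 : b ^ (2 * orderOf b.right) = 1 := by
        apply SemidirectProduct.ext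
        · apply Multiplicative.toAdd.injective
          rw [pow_left, two_mul, S_add]
          have h4 : ap b.right ^ orderOf b.right = 1 := by rw [← ap_pow, pow_orderOf_eq_one]; rfl
          rw [h4, one_mul]
          exact W_add_self _
        · rw [pow_right, two_mul, pow_add, pow_orderOf_eq_one]
          exact one_mul 1
      have h4 := orderOf_dvd_of_pow_eq_one h3
      obtain ⟨k, hk⟩ := hdvd
      have hpos : 0 < orderOf b.right := orderOf_pos _
      have h5 : k ∣ 2 := by
        rw [hk, mul_comm 2] at h4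
        exact Nat.dvd_of_mul_dvd_mul_left hpos h4
      rcases (Nat.dvd_prime Nat.prime_two).mp h5 with rfl | rfl
      · exfalso
        apply hS
        rw [← pow_left, ← mul_one (orderOf b.right), ← hk, pow_orderOf_eq_one]
        rfl
      · rw [hk, mul_comm]
        exact h2
  · rintro ⟨g, rfl⟩
    exact ⟨SemidirectProduct.inr g, orderOf_injective SemidirectProduct.inr SemidirectProduct.inr_injective g⟩

instance finite_B : Finite B := Finite.of_injective (fun b : B => (b.left, b.right)) (by
  intro b b' h
  exact SemidirectProduct.ext (congrArg Prod.fst h) (congrArg Prod.snd h))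

/-- the module as a normal subgroup -/
noncomputable def K : Subgroup B := (SemidirectProduct.rightHom (φ := φ)).ker

instance K_normal : K.Normal := inferInstanceAs (MonoidHom.ker _).Normal

theorem mem_K {b : B} : b ∈ K ↔ b.right = 1 := Iff.rfl

theorem K_ne_bot : K ≠ ⊥ := by
  intro h
  have h1 : (SemidirectProduct.inl (Multiplicative.ofAdd (bs 0)) : B) ∈ K := rfl
  rw [h, Subgroup.mem_bot] at h1
  have h2 := congrArg (fun b : B => Multiplicative.toAdd b.left 0) h1
  have h3 : (bs 0) 0 = (0 : F8) := h2
  simp [bs] at h3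

theorem K_comm (b b' : K) : b * b' = b' * b := by
  apply Subtype.ext
  apply SemidirectProduct.ext
  · apply Multiplicative.toAdd.injective
    show Multiplicative.toAdd b.1.left + ap b.1.right (Multiplicative.toAdd b'.1.left) =
      Multiplicative.toAdd b'.1.left + ap b'.1.right (Multiplicative.toAdd b.1.left)
    rw [mem_K.mp b.2, mem_K.mp b'.2, ap_one, ap_one, add_comm]
  · show b.1.right * b'.1.right = b'.1.right * b.1.right
    rw [mem_K.mp b.2, mem_K.mp b'.2]

theorem range_twD4 (k : Type*) [Field k] [Fintype k] (hk : Fintype.card k = 8) :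
    Set.range (orderOf : B → ℕ) = Set.range (orderOf : Cfsg.Lie.twistedD4 k 2 → ℕ) := by
  rw [range_B]
  obtain ⟨e⟩ := iso_M k hk
  ext n
  constructor
  · rintro ⟨g, rfl⟩
    exact ⟨e g, e.orderOf_eq g⟩
  · rintro ⟨h, rfl⟩
    exact ⟨e.symm h, e.symm.orderOf_eq h⟩

end Cfsg.Agent.H379.TD
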