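import Cfsg.Agent.H379.TD.AllThree

/-!
# The 7-elements and 13-elements of `³D₄(2)` on the natural module
-/

set_option autoImplicit false

namespace Cfsg.Agent.H379.TD

open Cfsg.Agent.TypeD4Two Module

/-- The property of 7-elements. -/
def Prop7 (w : M) : Prop := (∀ v, ap w v = v → v = 0) ∨
  (∀ u : M, Commute u w → ∀ m : ℕ, Nat.Coprime m 7 → u ^ m = 1 → u = 1)

/-- code of the diagonal matrix with entries 1, 1, 2, ..., 7 -/
def D7 : ℕ := 0xe00000180000028000004000000600000080000008000001

theorem lin_D7 (v : V) (j : Fin 8) : (lin D7 v) j = F8.ofN (max 1 j.1) * v j := by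
  have h' : ∀ i j : Fin 8, ent D7 i j = if i = j then F8.ofN (max 1 i.1) else 0 := by decide +kernel
  have h : ∀ i j : Fin 8, dec D7 i j = if i = j then F8.ofN (max 1 i.1) else 0 := h'
  show (dec D7).mulVec v j = _
  rw [Matrix.mulVec, dotProduct]
  simp only [h, ite_mul, zero_mul]
  rw [Finset.sum_ite_eq]
  simp

theorem F8_pow_seven : ∀ c : F8, c ≠ 0 → c ^ 7 = 1 := by decide +kernel

theorem lam_ne : ∀ j k : Fin 8, 2 ≤ k.1 → j ≠ k → F8.ofN (max 1 j.1) ≠ F8.ofN (max 1 k.1) := by decide +kernel

theorem ap_pow_smul {u : M} {v : V} {c : F8} (h : ap u v = c • v) (m : ℕ) : ap (u ^ m) v = c ^ m • v := by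
  induction m with
  | zero => simp [ap_one]
  | succ m ih => rw [pow_succ', ap_mul, ih, map_smul, h, smul_smul, pow_succ]

theorem prop7_of_cert {l : List ℕ} {P Pi : ℕ} (h1 : mulC P Pi = oneC) (h2 : mulC Pi P = oneC)
    (h3 : mulC (wv l) P = mulC P D7) (hs0 : ∀ k, star (col P 2) (col P 3) k = col P 0 k)
    (hs1 : ∀ k, star (col P 3) (col P 4) k = col P 1 k) : Prop7 (wm l) := by
  right
  intro u hu m hm hum
  have e1 : ∀ v, lin P (lin Pi v) = v := by
    intro v
    have := congrArg (fun f : Module.End F8 V => f v) (lin_mulC P Pi)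
    rw [h1, lin_one] at this
    exact this.symm
  have e2 : ∀ v, lin Pi (lin P v) = v := by
    intro v
    have := congrArg (fun f : Module.End F8 V => f v) (lin_mulC Pi P)
    rw [h2, lin_one] at this
    exact this.symm
  have e3 : ∀ v, ap (wm l) (lin P v) = lin P (lin D7 v) := by
    intro v
    have := congrArg (fun c => lin c v) h3
    simp only [lin_mulC] at this
    rw [ap_wm]
    exact this
  have key : ∀ k : Fin 8, 2 ≤ k.1 → ap u (col P k) = col P k := by
    intro k hk
    rw [← lin_bs]
    set v := lin Pi (ap u (lin P (bs k))) with hv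
    have hPv : lin P v = ap u (lin P (bs k)) := e1 _
    have hD : lin D7 v = F8.ofN (max 1 k.1) • v := by
      have h4 : lin P (lin D7 v) = F8.ofN (max 1 k.1) • lin P v := by
        rw [← e3, hPv, ← ap_commute hu, e3]
        have : lin D7 (bs k) = F8.ofN (max 1 k.1) • bs k := by
          funext j
          rw [lin_D7]
          by_cases hj : j = k
          · subst hj; simp [bs]
          · simp [bs, hj]
        rw [this, map_smul, map_smul]
      have h5 := congrArg (lin Pi) h4
      rw [e2, map_smul, e2] at h5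
      exact h5
    have hvj : ∀ j, j ≠ k → v j = 0 := by
      intro j hj
      have h4 := congrFun hD j
      rw [lin_D7] at h4
      have h5 : F8.ofN (max 1 j.1) * v j = F8.ofN (max 1 k.1) * v j := h4
      by_contra h6
      exact lam_ne j k hk hj (mul_right_cancel₀ h6 h5)
    have hvk : v = v k • bs k := by
      funext j
      by_cases hj : j = k
      · subst hj; simp [bs]
      · rw [hvj j hj]; simp [bs, hj]
    have hu1 : ap u (lin P (bs k)) = v k • lin P (bs k) := by
      rw [← hPv]
      conv_lhs => rw [hvk]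
      rw [map_smul]
    have hne : lin P (bs k) ≠ 0 := by
      intro h
      have := congrArg (lin Pi) h
      rw [e2, map_zero] at this
      have h8 := congrFun this k
      simp [bs] at h8
    have hc0 : v k ≠ 0 := by
      intro h
      rw [h, zero_smul] at hu1
      have := congrArg (ap u⁻¹) hu1
      rw [ap_inv_ap, map_zero] at this
      exact hne this
    have hcm : v k ^ m = 1 := by
      have h4 := ap_pow_smul hu1 m
      rw [hum, ap_one] at h4
      have h5 : (v k ^ m - 1) • lin P (bs k) = 0 := by rw [sub_smul, one_smul, ← h4, sub_self]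
      rcases smul_eq_zero.mp h5 with h6 | h6
      · exact sub_eq_zero.mp h6
      · exact absurd h6 hne
    have hc1 : v k = 1 := by
      have h4 := orderOf_dvd_of_pow_eq_one hcm
      have h5 := orderOf_dvd_of_pow_eq_one (F8_pow_seven _ hc0)
      have h6 := Nat.dvd_gcd h4 h5
      rw [hm] at h6
      exact orderOf_eq_one_iff.mp (Nat.dvd_one.mp h6)
    rw [hu1, hc1, one_smul]
  have k0 : ap u (col P 0) = col P 0 := by
    rw [← funext hs0, ← ap_star, key 2 (by decide), key 3 (by decide)]
  have k1 : ap u (col P 1) = col P 1 := by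
    rw [← funext hs1, ← ap_star, key 3 (by decide), key 4 (by decide)]
  have kall : ∀ k : Fin 8, ap u (lin P (bs k)) = lin P (bs k) := by
    intro k
    rw [lin_bs]
    by_cases hk : 2 ≤ k.1
    · exact key k hk
    · have : k = 0 ∨ k = 1 := by omega
      rcases this with rfl | rfl
      · exact k0
      · exact k1
  apply ap_injective
  intro v
  rw [ap_one, ← e1 v, eq_sum (lin Pi v), map_sum, map_sum]
  apply Finset.sum_congr rfl
  intro i _
  rw [map_smul, map_smul, kall]

theorem Prop7.conj {w : M} (h : Prop7 w) (g : M) : Prop7 (g * w * g⁻¹) := by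
  rcases h with h | h
  · left
    intro v hv
    have := congrArg (ap g⁻¹) hv
    rw [ap_mul, ap_mul, ap_inv_ap] at this
    have h3 := h _ this
    rw [← ap_ap_inv g v, h3, map_zero]
  · right
    intro u hu m hm hum
    have hc : Commute (g⁻¹ * u * g) w := by
      have := hu.eq
      unfold Commute SemiconjBy
      calc g⁻¹ * u * g * w = g⁻¹ * (u * (g * w * g⁻¹)) * g := by group
        _ = g⁻¹ * ((g * w * g⁻¹) * u) * g := by rw [this]
        _ = w * (g⁻¹ * u * g) := by group
    have h3 : g⁻¹ * u * g = MulAut.conj g⁻¹ u := by simp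
    have hp : (g⁻¹ * u * g) ^ m = 1 := by rw [h3, ← map_pow, hum, map_one]
    have h4 := h _ hc m hm hp
    have : u = g * (g⁻¹ * u * g) * g⁻¹ := by group
    rw [this, h4]
    group

theorem Prop7.of_pow {r : M} (h : Prop7 r) {j j' : ℕ} (hj : (r ^ j) ^ j' = r) : Prop7 (r ^ j) := by
  rcases h with h | h
  · left
    intro v hv
    apply h
    have := fix_pow hv j'
    rwa [hj] at this
  · right
    intro u hu m hm hum
    apply h u _ m hm hum
    have := hu.pow_right j'
    rwa [hj] at this

/-- word of the second generator of the Sylow 7-subgroup -/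
def wy2 : List ℕ := [3, 4, 2, 4, 2]
/-- first generator -/
def d : M := wm [0]
/-- second generator -/
def y2 : M := wm wy2

theorem d_pow : d ^ 7 = 1 := by rw [d, ← wm_wp]; exact wm_one (by decide +kernel)
theorem y2_pow : y2 ^ 7 = 1 := by rw [y2, ← wm_wp]; exact wm_one (by decide +kernel)
theorem d_y2 : Commute d y2 := by
  show d * y2 = y2 * d
  rw [d, y2, ← wm_append, ← wm_append]; exact wm_eq (by decide +kernel)

theorem dy2_pow (i : ℕ) : (d ^ i * y2) ^ 7 = 1 := by
  rw [(d_y2.pow_left i).mul_pow, ← pow_mul, mul_comm i 7, pow_mul, d_pow, one_pow, y2_pow, one_mul]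

theorem prop7_nofix {l : List ℕ} (h : sumC (wv l) 7 = 0) : Prop7 (wm l) := by
  left
  intro v hv
  rw [ap_wm] at hv
  exact no_fix (by decide) h hv

theorem prop7_d : Prop7 d := prop7_nofix (by decide +kernel)

theorem dy2_eq (i : ℕ) : d ^ i * y2 = wm (wp [0] i ++ wy2) := by
  rw [wm_append, wm_wp]; rfl

theorem prop7_dy2 (i : ℕ) (hi : i < 7) : Prop7 (d ^ i * y2) := by
  rw [dy2_eq]
  interval_cases i
  · exact prop7_of_cert (P := 0x2082000410400c7140000003000038e28600810c00184080)
      (Pi := 0xa001301f00026000a0160006e001900d0004000800006000) (by decide +kernel) (by decide +kernel)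
      (by decide +kernel) (by decide +kernel) (by decide +kernel)
  · exact prop7_of_cert (P := 0x1201240010f40030000040008000007a03004406880038)
      (Pi := 0x1600060d0004000200a001306000a0001000198001e00190) (by decide +kernel) (by decide +kernel)
      (by decide +kernel) (by decide +kernel) (by decide +kernel)
  · exact prop7_of_cert (P := 0x480040002480007e80010002000000f80021a0003000d10)
      (Pi := 0x200e00190a001300010001f00021600060d0004400148) (by decide +kernel) (by decide +kernel)
      (by decide +kernel) (by decide +kernel) (by decide +kernel)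
  · exact prop7_nofix (by decide +kernel)
  · exact prop7_of_cert (P := 0x20004100900802b038040000000200600147c00084016020)
      (Pi := 0xe001900010000d00041f00020002006000a0160006a00130) (by decide +kernel) (by decide +kernel)
      (by decide +kernel) (by decide +kernel) (by decide +kernel)
  · exact prop7_nofix (by decide +kernel)
  · exact prop7_nofix (by decide +kernel)

/-- the Sylow 7-subgroup -/
def K7 : Subgroup M where
  carrier := {g | ∃ i j : ℕ, g = d ^ i * y2 ^ j}
  one_mem' := ⟨0, 0, by simp⟩
  mul_mem' := by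
    rintro _ _ ⟨i, j, rfl⟩ ⟨i', j', rfl⟩
    refine ⟨i + i', j + j', ?_⟩
    rw [pow_add, pow_add]
    have h := (d_y2.pow_pow i' j).eq
    calc d ^ i * y2 ^ j * (d ^ i' * y2 ^ j') = d ^ i * (y2 ^ j * d ^ i') * y2 ^ j' := by simp only [mul_assoc]
      _ = d ^ i * (d ^ i' * y2 ^ j) * y2 ^ j' := by rw [h]
      _ = _ := by simp only [mul_assoc]
  inv_mem' := by
    rintro _ ⟨i, j, rfl⟩
    refine ⟨i * 6, j * 6, ?_⟩
    rw [inv_eq_iff_mul_eq_one]
    have h := (d_y2.pow_pow (i * 6) j).eq
    calc d ^ i * y2 ^ j * (d ^ (i * 6) * y2 ^ (j * 6)) = d ^ i * (y2 ^ j * d ^ (i * 6)) * y2 ^ (j * 6) := by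
          simp only [mul_assoc]
      _ = d ^ i * (d ^ (i * 6) * y2 ^ j) * y2 ^ (j * 6) := by rw [h]
      _ = (d ^ 7) ^ i * (y2 ^ 7) ^ j := by
          rw [← pow_mul, ← pow_mul]
          have e1 : 7 * i = i + i * 6 := by ring
          have e2 : 7 * j = j + j * 6 := by ring
          rw [e1, e2, pow_add, pow_add]
          simp only [mul_assoc]
      _ = 1 := by rw [d_pow, y2_pow, one_pow, one_pow, one_mul]

/-- codes of the 49 elements -/
def T7 : List ℕ := [
  0x200000040000008000001000000200000040000008000001,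
  0xc000000c0000018000002000000a00000180000030000003,
  0x400000140000028000004000000e00000080000010000005,
  0xe00000100000020000003000000c000001c0000038000004,
  0x8000001c0000038000006000000600000100000020000007,
  0xa00000080000010000007000000800000140000028000002,
  0x6000001800000300000050000004000000c0000018000006,
  0x40000001040000001000000200000048200000048000,
  0x1800000030c0000002000000a000001b0c000000d8000,
  0x80000005140000004000000e00000090400000168000,
  0x1c0000004100000003000000c000001f8e00000120000,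
  0x1000000071c00000060000006000001208000001f8000,
  0x140000002080000007000000800000168a00000090000,
  0xc00000061800000050000004000000d86000001b0000,
  0x48048000000001001000000200200048000040040001,
  0x1b00d8000000003002000000a00c001b00001800c0003,
  0x90168000000005004000000e00400090000080140005,
  0x1f8120000000004003000000c00e001f80001c0100004,
  0x1201f80000000070060000006008001200001001c0007,
  0x168090000000002007000000800a00168000140080002,
  0xd81b00000000060050000004006000d80000c0180006,
  0x200048040001048000001000000200200008000048048001,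
  0xc001b00c00030d8000002000000a00c000300001b00d8003,
  0x400090140005168000004000000e00400010000090168005,
  0xe001f8100004120000003000000c00e000380001f8120004,
  0x8001201c00071f80000060000006008000200001201f8007,
  0xa00168080002090000007000000800a00028000168090002,
  0x6000d81800061b00000050000004006000180000d81b0006,
  0x200008048001040001001000000200200040200048008001,
  0xc000300d80030c0003002000000a00c00180c001b0018003,
  0x400010168005140005004000000e00400080400090028005,
  0xe00038120004100004003000000c00e001c0e001f8020004,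
  0x8000201f80071c0007006000000600800100800120038007,
  0xa00028090002080002007000000800a00140a00168010002,
  0x6000181b00061800060050000004006000c06000d8030006,
  0x200040008001048001001000000200000008200008008000,
  0xc001800180030d8003002000000a00000030c00030018000,
  0x400080028005168005004000000e00000010400010028000,
  0xe001c0020004120004003000000c00000038e00038020000,
  0x8001000380071f8007006000000600000020800020038000,
  0xa00140010002090002007000000800000028a00028010000,
  0x6000c00300061b0006005000000400000018600018030000,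
  0x8008000008001001000000200200000200040040000,
  0x30018000018003002000000a00c00000c001800c0000,
  0x10028000028005004000000e00400000400080140000,
  0x38020000020004003000000c00e00000e001c0100000,
  0x200380000380070060000006008000008001001c0000,
  0x28010000010002007000000800a00000a00140080000,
  0x180300000300060050000004006000006000c0180000]

/-- code of an element of the Sylow 7-subgroup -/
def cf7 (m : ℕ) : ℕ := mulC (powC (wv [0]) (m % 7)) (powC (wv wy2) (m / 7))

theorem ap_F7 (m : ℕ) : ap (d ^ (m % 7) * y2 ^ (m / 7)) = lin (cf7 m) := by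
  unfold cf7
  rw [lin_mulC, lin_powC, lin_powC, ← ap_wm, ← ap_wm, ← ap_pow, ← ap_pow]
  rfl

theorem cf7_eq : ∀ m : Fin 49, cf7 m.1 = T7.getD m.1 0 := by decide +kernel

theorem T7_nodup : T7.Nodup := by decide +kernel

theorem T7_lt : ∀ c ∈ T7, c < 8 ^ 64 := by decide +kernel

theorem T7_length : T7.length = 49 := by decide +kernel

theorem card_K7 : Nat.card K7 = 7 ^ 2 := by
  apply le_antisymm
  · have h : Function.Surjective fun m : Fin 49 =>
        (⟨d ^ (m.1 % 7) * y2 ^ (m.1 / 7), ⟨_, _, rfl⟩⟩ : K7) := by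
      rintro ⟨g, i, j, rfl⟩
      refine ⟨⟨i % 7 + 7 * (j % 7), by omega⟩, ?_⟩
      apply Subtype.ext
      show d ^ _ * y2 ^ _ = d ^ i * y2 ^ j
      rw [pow_eq_pow_mod i d_pow, pow_eq_pow_mod j y2_pow]
      congr 2 <;> simp only <;> omega
    have := Nat.card_le_card_of_surjective _ h
    simpa using this
  · have h : Function.Injective fun m : Fin 49 =>
        (⟨d ^ (m.1 % 7) * y2 ^ (m.1 / 7), ⟨_, _, rfl⟩⟩ : K7) := by
      intro m m' hm
      have h1 : d ^ (m.1 % 7) * y2 ^ (m.1 / 7) = d ^ (m'.1 % 7) * y2 ^ (m'.1 / 7) :=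
        congrArg Subtype.val hm
      have h2 : lin (cf7 m.1) = lin (cf7 m'.1) := by rw [← ap_F7, ← ap_F7, h1]
      have hl : ∀ m : Fin 49, cf7 m.1 = T7[m.1]'(by rw [T7_length]; exact m.2) := by
        intro m
        rw [cf7_eq m]
        exact List.getD_eq_getElem _ _ _
      have hlt : ∀ m : Fin 49, cf7 m.1 < 8 ^ 64 := by
        intro m
        rw [hl m]
        exact T7_lt _ (List.getElem_mem _)
      have h3 := lin_inj (hlt m) (hlt m') h2
      rw [hl m, hl m'] at h3
      exact Fin.ext ((T7_nodup.getElem_inj_iff).mp h3)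
    have := Nat.card_le_card_of_injective _ h
    simpa using this

theorem prop7_K7 {g : M} (hg : g ∈ K7) (h1 : g ≠ 1) : Prop7 g ∧ g ^ 7 = 1 := by
  obtain ⟨i, j, rfl⟩ := hg
  have hpow : (d ^ i * y2 ^ j) ^ 7 = 1 := by
    rw [(d_y2.pow_pow i j).mul_pow, ← pow_mul, ← pow_mul, mul_comm i 7, mul_comm j 7, pow_mul, pow_mul, d_pow,
      y2_pow, one_pow, one_pow, one_mul]
  refine ⟨?_, hpow⟩
  have hinv : ∀ a : Fin 7, a.1 ≠ 0 → ∃ b : Fin 7, a.1 * b.1 % 7 = 1 := by decide
  by_cases hj : j % 7 = 0
  · have e : d ^ i * y2 ^ j = d ^ i := by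
      rw [pow_eq_pow_mod j y2_pow, hj, pow_zero, mul_one]
    have hi : i % 7 ≠ 0 := by
      intro hi
      apply h1
      rw [e, pow_eq_pow_mod i d_pow, hi, pow_zero]
    obtain ⟨b, hb⟩ := hinv ⟨i % 7, Nat.mod_lt _ (by norm_num)⟩ hi
    rw [e]
    refine prop7_d.of_pow (j' := b.1) ?_
    rw [← pow_mul, pow_eq_pow_mod _ d_pow]
    have : i * b.1 % 7 = 1 := by rw [← hb]; simp [Nat.mod_mul_mod]
    rw [this, pow_one]
  · obtain ⟨b, hb⟩ := hinv ⟨j % 7, Nat.mod_lt _ (by norm_num)⟩ hj
    have hjb : j * b.1 % 7 = 1 := by rw [← hb]; simp [Nat.mod_mul_mod]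
    have hr := prop7_dy2 (i * b.1 % 7) (Nat.mod_lt _ (by norm_num))
    have e : (d ^ (i * b.1 % 7) * y2) ^ j = d ^ i * y2 ^ j := by
      rw [(d_y2.pow_left _).mul_pow, ← pow_mul]
      congr 1
      rw [pow_eq_pow_mod (i * b.1 % 7 * j) d_pow, pow_eq_pow_mod i d_pow]
      congr 1
      rw [Nat.mod_mul_mod, mul_assoc, mul_comm b.1 j, Nat.mul_mod, hjb]
      simp
    rw [← e]
    refine hr.of_pow (j' := b.1) ?_
    rw [← pow_mul, pow_eq_pow_mod _ (dy2_pow _), hjb, pow_one]

/-- All nontrivial 7-elements. -/
theorem prop7_all {w : M} (hw : w ≠ 1) {k : ℕ} (hk : w ^ (7 ^ k) = 1) : Prop7 w ∧ w ^ 7 = 1 := by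
  have : Fact (Nat.Prime 7) := ⟨by norm_num⟩
  obtain ⟨g, hg⟩ := conj_mem (p := 7) K7 card_K7 (by rw [card_M]; norm_num) hk
  have h1 : g * w * g⁻¹ ≠ 1 := by
    intro h2
    exact hw (conj_eq_one_iff.mp h2)
  obtain ⟨h2, h5⟩ := prop7_K7 hg h1
  have h3 := h2.conj g⁻¹
  have h4 : g⁻¹ * (g * w * g⁻¹) * g⁻¹⁻¹ = w := by group
  rw [h4] at h3
  refine ⟨h3, ?_⟩
  have h6 : g * w * g⁻¹ = MulAut.conj g w := rfl
  rw [h6, ← map_pow] at h5
  exact (MulEquiv.map_eq_one_iff _).mp h5

/-- word of an element of order 13 -/
def w13 : List ℕ := [4, 3, 2, 1, 0]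

theorem pow13 : wm w13 ^ 13 = 1 := by rw [← wm_wp]; exact wm_one (by decide +kernel)

theorem nofix13 {v : V} (hv : ap (wm w13) v = v) : v = 0 := by
  rw [ap_wm] at hv
  exact no_fix (n := 13) (by decide) (by decide +kernel) hv

theorem w13_ne : wm w13 ≠ 1 := by
  intro h
  have := nofix13 (v := bs 0) (by rw [h, ap_one])
  have h2 := congrFun this 0
  simp [bs] at h2

theorem thirteen_all {w : M} (hw : w ≠ 1) {k : ℕ} (hk : w ^ (13 ^ k) = 1) {v : V} (hv : ap w v = v) : v = 0 := by
  have : Fact (Nat.Prime 13) := ⟨by norm_num⟩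
  have hc : Nat.card (Subgroup.zpowers (wm w13)) = 13 ^ 1 := by
    rw [Nat.card_zpowers, pow_one]
    exact orderOf_eq_prime pow13 w13_ne
  obtain ⟨g, hg⟩ := conj_mem (p := 13) _ hc (by rw [card_M]; norm_num) hk
  have h1 : g * w * g⁻¹ ≠ 1 := by
    intro h2
    exact hw (conj_eq_one_iff.mp h2)
  have h2 : Subgroup.zpowers (g * w * g⁻¹) = Subgroup.zpowers (wm w13) := by
    apply Subgroup.eq_of_le_of_card_ge
    · rwa [Subgroup.zpowers_le]
    · rw [hc, pow_one, Nat.card_zpowers]
      have h3 : orderOf (g * w * g⁻¹) ∣ 13 := by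
        have := Subgroup.card_dvd_of_le (show Subgroup.zpowers (g * w * g⁻¹) ≤ Subgroup.zpowers (wm w13) by
          rwa [Subgroup.zpowers_le])
        rwa [hc, pow_one, Nat.card_zpowers] at this
      rcases (Nat.dvd_prime (by norm_num)).mp h3 with h4 | h4
      · exact absurd (orderOf_eq_one_iff.mp h4) h1
      · exact h4.ge
  have h3 : wm w13 ∈ Subgroup.zpowers (g * w * g⁻¹) := by rw [h2]; exact Subgroup.mem_zpowers _
  have h5 : wm w13 ∈ Submonoid.powers (g * w * g⁻¹) := mem_powers_iff_mem_zpowers.mpr h3
  obtain ⟨n, hn⟩ := h5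
  have h4 : ap (g * w * g⁻¹) (ap g v) = ap g v := by
    rw [ap_mul, ap_mul, ap_inv_ap, hv]
  have h6 := fix_pow h4 n
  have hn' : (g * w * g⁻¹) ^ n = wm w13 := hn
  rw [hn'] at h6
  have h7 := nofix13 h6
  rw [← ap_inv_ap g v, h7, map_zero]

end Cfsg.Agent.H379.TD
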