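import Cfsg.Agent.H379.TD.Three

/-!
# A Sylow 3-subgroup of `³D₄(2)`
-/

set_option autoImplicit false

namespace Cfsg.Agent.H379.TD

open Cfsg.Agent.TypeD4Two Module

theorem encF_self (c n : ℕ) : encF (fun k => c / 8 ^ k) n = c % 8 ^ n := by
  induction n with
  | zero => simp [encF, Nat.mod_one]
  | succ n ih => rw [encF, ih, Nat.mod_pow_succ, Nat.mul_comm]

theorem encF_congr {f g : ℕ → ℕ} {n : ℕ} (h : ∀ k < n, f k % 8 = g k % 8) : encF f n = encF g n := by
  induction n with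
  | zero => rfl
  | succ n ih => rw [encF, encF, ih fun k hk => h k (by omega), h n (by omega)]

/-- codes are determined by the matrices -/
theorem dec_inj {c c' : ℕ} (h1 : c < 8 ^ 64) (h2 : c' < 8 ^ 64) (h : dec c = dec c') : c = c' := by
  have key : encF (fun k => c / 8 ^ k) 64 = encF (fun k => c' / 8 ^ k) 64 := by
    apply encF_congr
    intro k hk
    have h3 := congrFun (congrFun h ⟨k / 8, by omega⟩) ⟨k % 8, by omega⟩
    have e : 8 * (k / 8) + k % 8 = k := by omega
    have h4 : (dec c ⟨k / 8, by omega⟩ ⟨k % 8, by omega⟩).v = c / 8 ^ k % 8 := by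
      show Nat.shiftRight c (3 * (8 * (k / 8) + k % 8)) % 8 = _
      rw [e, shift_eq]
    have h5 : (dec c' ⟨k / 8, by omega⟩ ⟨k % 8, by omega⟩).v = c' / 8 ^ k % 8 := by
      show Nat.shiftRight c' (3 * (8 * (k / 8) + k % 8)) % 8 = _
      rw [e, shift_eq]
    rw [← h4, ← h5, h3]
  rw [encF_self, encF_self, Nat.mod_eq_of_lt h1, Nat.mod_eq_of_lt h2] at key
  exact key

theorem lin_inj {c c' : ℕ} (h1 : c < 8 ^ 64) (h2 : c' < 8 ^ 64) (h : lin c = lin c') : c = c' :=
  dec_inj h1 h2 ((Matrix.toLinAlgEquiv' (R := F8) (n := Fin 8)).injective h)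

/-- normal form of the elements of the Sylow 3-subgroup -/
def F (i j k : ℕ) : M := x ^ i * x0 ^ j * y ^ k

theorem hxx0 : Commute x x0 := x_x0

theorem y_xpow (i : ℕ) : y * x ^ i = x ^ (4 * i) * x0 ^ (2 * i) * y := by
  induction i with
  | zero => simp
  | succ i ih =>
    rw [pow_succ, ← mul_assoc, ih, mul_assoc, y_x, Nat.mul_succ, Nat.mul_succ, pow_add, pow_add]
    have h := (hxx0.pow_pow 4 (2 * i)).eq
    calc x ^ (4 * i) * x0 ^ (2 * i) * (x ^ 4 * x0 ^ 2 * y) = x ^ (4 * i) * (x0 ^ (2 * i) * x ^ 4) * x0 ^ 2 * y := by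
          simp only [mul_assoc]
      _ = x ^ (4 * i) * (x ^ 4 * x0 ^ (2 * i)) * x0 ^ 2 * y := by rw [h]
      _ = _ := by simp only [mul_assoc]

theorem y_x0pow (i : ℕ) : y * x0 ^ i = x ^ (3 * i) * x0 ^ i * y := by
  induction i with
  | zero => simp
  | succ i ih =>
    rw [pow_succ, ← mul_assoc, ih, mul_assoc, y_x0, Nat.mul_succ, pow_add]
    have h := (hxx0.pow_pow 3 i).eq
    calc x ^ (3 * i) * x0 ^ i * (x ^ 3 * x0 * y) = x ^ (3 * i) * (x0 ^ i * x ^ 3) * x0 * y := by
          simp only [mul_assoc]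
      _ = x ^ (3 * i) * (x ^ 3 * x0 ^ i) * x0 * y := by rw [h]
      _ = _ := by simp only [mul_assoc]

theorem x_mul (i j k : ℕ) : x * F i j k = F (i + 1) j k := by
  unfold F
  rw [pow_succ']
  simp only [mul_assoc]

theorem xp_mul (m i j k : ℕ) : x ^ m * F i j k = F (i + m) j k := by
  induction m generalizing i with
  | zero => simp
  | succ m ih => rw [pow_succ, mul_assoc, x_mul, ih]; congr 1; ring

theorem x0_mul (i j k : ℕ) : x0 * F i j k = F i (j + 1) k := by
  unfold F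
  have h := (hxx0.pow_left i).eq
  calc x0 * (x ^ i * x0 ^ j * y ^ k) = (x0 * x ^ i) * x0 ^ j * y ^ k := by simp only [mul_assoc]
    _ = x ^ i * x0 * x0 ^ j * y ^ k := by rw [h]
    _ = _ := by rw [pow_succ']; simp only [mul_assoc]

theorem x0p_mul (m i j k : ℕ) : x0 ^ m * F i j k = F i (j + m) k := by
  induction m generalizing j with
  | zero => simp
  | succ m ih => rw [pow_succ, mul_assoc, x0_mul, ih]; congr 1; ring

theorem y_mul (i j k : ℕ) : y * F i j k = F (4 * i + 3 * j) (2 * i + j) (k + 1) := by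
  unfold F
  have h := (hxx0.pow_pow (3 * j) (2 * i)).eq
  calc y * (x ^ i * x0 ^ j * y ^ k) = (y * x ^ i) * x0 ^ j * y ^ k := by simp only [mul_assoc]
    _ = x ^ (4 * i) * x0 ^ (2 * i) * (y * x0 ^ j) * y ^ k := by rw [y_xpow]; simp only [mul_assoc]
    _ = x ^ (4 * i) * (x0 ^ (2 * i) * x ^ (3 * j)) * x0 ^ j * (y * y ^ k) := by
        rw [y_x0pow]; simp only [mul_assoc]
    _ = x ^ (4 * i) * (x ^ (3 * j) * x0 ^ (2 * i)) * x0 ^ j * y ^ (k + 1) := by rw [h, pow_succ']
    _ = _ := by rw [pow_add x, pow_add x0]; simp only [mul_assoc]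

theorem F_mod (i j k : ℕ) : F i j k = F (i % 9) (j % 3) (k % 3) := by
  unfold F
  rw [pow_eq_pow_mod i x_pow, pow_eq_pow_mod j x0_pow, pow_eq_pow_mod k y_pow]

/-- the Sylow 3-subgroup -/
def K3 : Subgroup M := Subgroup.closure {x, x0, y}

theorem form {g : M} (hg : g ∈ K3) : ∃ i j k, g = F i j k := by
  have hx : ∀ g : M, (∃ i j k, g = F i j k) → ∃ i j k, x * g = F i j k := by
    rintro g ⟨i, j, k, rfl⟩
    exact ⟨_, _, _, x_mul i j k⟩
  have hx0 : ∀ g : M, (∃ i j k, g = F i j k) → ∃ i j k, x0 * g = F i j k := by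
    rintro g ⟨i, j, k, rfl⟩
    exact ⟨_, _, _, x0_mul i j k⟩
  have hy : ∀ g : M, (∃ i j k, g = F i j k) → ∃ i j k, y * g = F i j k := by
    rintro g ⟨i, j, k, rfl⟩
    exact ⟨_, _, _, y_mul i j k⟩
  have hpow : ∀ (a : M), (∀ g : M, (∃ i j k, g = F i j k) → ∃ i j k, a * g = F i j k) →
      ∀ n : ℕ, ∀ g : M, (∃ i j k, g = F i j k) → ∃ i j k, a ^ n * g = F i j k := by
    intro a ha n
    induction n with
    | zero => intro g hg; simpa using hg
    | succ n ih =>
      intro g hg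
      rw [pow_succ, mul_assoc]
      exact ih _ (ha g hg)
  have hinv : ∀ (a : M), (∀ g : M, (∃ i j k, g = F i j k) → ∃ i j k, a * g = F i j k) →
      ∀ g : M, (∃ i j k, g = F i j k) → ∃ i j k, a⁻¹ * g = F i j k := by
    intro a ha g hg
    have h1 : a⁻¹ = a ^ (orderOf a - 1) := by
      rw [inv_eq_iff_mul_eq_one, ← pow_succ', Nat.sub_add_cancel (orderOf_pos a), pow_orderOf_eq_one]
    rw [h1]
    exact hpow a ha _ g hg
  unfold K3 at hg
  induction hg using Subgroup.closure_induction_left with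
  | one => exact ⟨0, 0, 0, by simp [F]⟩
  | mul_left a ha b _ ih =>
    rcases ha with rfl | rfl | rfl
    · exact hx _ ih
    · exact hx0 _ ih
    · exact hy _ ih
  | inv_mul_cancel a ha b _ ih =>
    rcases ha with rfl | rfl | rfl
    · exact hinv _ hx _ ih
    · exact hinv _ hx0 _ ih
    · exact hinv _ hy _ ih

theorem F_mem (i j k : ℕ) : F i j k ∈ K3 := by
  have h : ∀ g ∈ ({x, x0, y} : Set M), g ∈ K3 := fun g hg => Subgroup.subset_closure hg
  exact K3.mul_mem (K3.mul_mem (K3.pow_mem (h x (by simp)) _) (K3.pow_mem (h x0 (by simp)) _))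
    (K3.pow_mem (h y (by simp)) _)

/-- codes of the 81 elements -/
def T3 : List ℕ := [
  0x200000040000008000001000000200000040000008000001,
  0xcc0000c0000001ab80018a0001a000018000000033000030,
  0x640000440000037a4000f84001ea4002e840000019000011,
  0xf40000380000026a8002978001fe4000a8c000003d00000e,
  0xe800008c000002234001f4c003344003998000003a000023,
  0x6800009c000003174002244000be8003e70000001a000027,
  0xd400003c0000019c8002774001738000bb0000003500000f,
  0x2400004c0000009240025940036fc002b380000009000013,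
  0xc0000d80000000180000b4000208001b6c0000003000036,
  0x200008040001008000001000000200000040200000040000,
  0xcc0033c0003001ab80018a0001a000018000cc0000c00000,
  0x640019440011037a4000f84001ea4002e840640000440000,
  0xf4003d38000e026a8002978001fe4000a8c0f40000380000,
  0xe8003a8c002302234001f4c0033440039980e800008c0000,
  0x68001a9c002703174002244000be8003e7006800009c0000,
  0xd400353c000f019c8002774001738000bb00d400003c0000,
  0x2400094c0013009240025940036fc002b3802400004c0000,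
  0xc0003d80036000180000b4000208001b6c00c0000d80000,
  0x8000001008000001000000200000040200008040001,
  0x3300003001ab80018a0001a000018000cc0033c00030,
  0x19000011037a4000f84001ea4002e840640019440011,
  0x3d00000e026a8002978001fe4000a8c0f4003d38000e,
  0x3a00002302234001f4c0033440039980e8003a8c0023,
  0x1a00002703174002244000be8003e70068001a9c0027,
  0x3500000f019c8002774001738000bb00d400353c000f,
  0x9000013009240025940036fc002b3802400094c0013,
  0x3000036000180000b4000208001b6c00c0003d80036,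
  0xd7be483cbb41e776292cf0ef348fdb04138ff7683538a88f,
  0x27c0b34e19b0b31abef2278715fbae4caa23e8c5898d2a13,
  0xdef99da51d1c86c8682d76a3174549cb9916836839f5eb6,
  0x23683d04a88e43763990f0cb588fcd381381d4d6483c13c1,
  0xccc5bac12a234b1aacee27bcadfb85c0aa132705334f33b0,
  0x64369a475ea7d06cb22ad76061744cd8b9a70dd919d90f51,
  0xf4d6753813cfa77610bcf0e46c8fd63c138e23be7d04bb4e,
  0xeb05098f3393fb1a921e27bbb9fbab8caa30cfc0bac219a3,
  0x69d9039d0f76186cb4aad74a51745844b9b665ef9a4651e7,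
  0x20d67d0413cee776292cf0ef348fdb04138fd7be483cbb41,
  0xcf053ac333a3b31abef2278715fbae4caa2327c0b34e19b0,
  0x65d91a450f67c86c8682d76a3174549cb9910def99da51d1,
  0xf7be7538bb4f43763990f0cb588fcd38138123683d04a88e,
  0xebc0898e19934b1aacee27bcadfb85c0aa13ccc5bac12a23,
  0x69ef839e51f6d06cb22ad76061744cd8b9a764369a475ea7,
  0xd768083ca881a77610bcf0e46c8fd63c138ef4d6753813cf,
  0x24c5b34d2a30fb1a921e27bbb9fbab8caa30eb05098f3393,
  0xc3699db5e91186cb4aad74a51745844b9b669d9039d0f76,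
  0xf7683538a88fe776292cf0ef348fdb04138f20d67d0413ce,
  0xe8c5898d2a13b31abef2278715fbae4caa23cf053ac333a3,
  0x6836839f5eb6c86c8682d76a3174549cb99165d91a450f67,
  0xd4d6483c13c143763990f0cb588fcd381381f7be7538bb4f,
  0x2705334f33b04b1aacee27bcadfb85c0aa13ebc0898e1993,
  0xdd919d90f51d06cb22ad76061744cd8b9a769ef839e51f6,
  0x23be7d04bb4ea77610bcf0e46c8fd63c138ed768083ca881,
  0xcfc0bac219a3fb1a921e27bbb9fbab8caa3024c5b34d2a30,
  0x65ef9a4651e7186cb4aad74a51745844b9b60c3699db5e91,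
  0xf7be4838bb4143762990f0ef588fdb38138fd4d67d3c13ce,
  0xebc0b38e19b04b1abeee2787adfbaec0aa2327053a4f33a3,
  0x69ef999e51d1d06c862ad76a617454d8b9910dd91ad90f67,
  0xd7683d3ca88ea77639bcf0cb6c8fcd3c138123be7504bb4f,
  0x24c5ba4d2a23fb1aac1e27bcb9fb858caa13cfc089c21993,
  0xc369adb5ea7186cb2aad76051744c44b9a765ef834651f6,
  0x20d6750413cfe776102cf0e4348fd604138ef7680838a881,
  0xcf0509c33393b31a92f227bb15fbab4caa30e8c5b38d2a30,
  0x65d903450f76c86cb482d74a3174589cb9b66836999f5e91,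
  0x23683504a88f43762990f0ef588fdb38138ff7be4838bb41,
  0xccc589c12a134b1abeee2787adfbaec0aa23ebc0b38e19b0,
  0x643683475eb6d06c862ad76a617454d8b99169ef999e51d1,
  0xf4d6483813c1a77639bcf0cb6c8fcd3c1381d7683d3ca88e,
  0xeb05338f33b0fb1aac1e27bcb9fb858caa1324c5ba4d2a23,
  0x69d9199d0f51186cb2aad76051744c44b9a70c369adb5ea7,
  0xd7be7d3cbb4ee776102cf0e4348fd604138e20d6750413cf,
  0x27c0ba4e19a3b31a92f227bb15fbab4caa30cf0509c33393,
  0xdef9ada51e7c86cb482d74a3174589cb9b665d903450f76,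
  0xd4d67d3c13ce43762990f0ef588fdb38138f23683504a88f,
  0x27053a4f33a34b1abeee2787adfbaec0aa23ccc589c12a13,
  0xdd91ad90f67d06c862ad76a617454d8b991643683475eb6,
  0x23be7504bb4fa77639bcf0cb6c8fcd3c1381f4d6483813c1,
  0xcfc089c21993fb1aac1e27bcb9fb858caa13eb05338f33b0,
  0x65ef834651f6186cb2aad76051744c44b9a769d9199d0f51,
  0xf7680838a881e776102cf0e4348fd604138ed7be7d3cbb4e,
  0xe8c5b38d2a30b31a92f227bb15fbab4caa3027c0ba4e19a3,
  0x6836999f5e91c86cb482d74a3174589cb9b60def9ada51e7]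

/-- code of an element of the Sylow 3-subgroup -/
def cf (m : ℕ) : ℕ :=
  mulC (mulC (powC (wv wx) (m % 9)) (powC (wv wx0) (m / 9 % 3))) (powC (wv wy) (m / 27))

theorem ap_F (m : ℕ) : ap (F (m % 9) (m / 9 % 3) (m / 27)) = lin (cf m) := by
  unfold F cf
  rw [lin_mulC, lin_mulC, lin_powC, lin_powC, lin_powC, ← ap_wm, ← ap_wm, ← ap_wm, ← ap_pow, ← ap_pow, ← ap_pow]
  rfl

theorem cf_eq : ∀ m : Fin 81, cf m.1 = T3.getD m.1 0 := by decide +kernel

theorem T3_nodup : T3.Nodup := by decide +kernel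

theorem T3_lt : ∀ c ∈ T3, c < 8 ^ 64 := by decide +kernel

theorem T3_length : T3.length = 81 := by decide +kernel

theorem card_K3 : Nat.card K3 = 3 ^ 4 := by
  apply le_antisymm
  · have h : Function.Surjective fun m : Fin 81 =>
        (⟨F (m.1 % 9) (m.1 / 9 % 3) (m.1 / 27), F_mem _ _ _⟩ : K3) := by
      rintro ⟨g, hg⟩
      obtain ⟨i, j, k, rfl⟩ := form hg
      refine ⟨⟨i % 9 + 9 * (j % 3) + 27 * (k % 3), by omega⟩, ?_⟩
      apply Subtype.ext
      show F _ _ _ = F i j k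
      rw [F_mod i j k]
      congr 1 <;> simp only <;> omega
    have := Nat.card_le_card_of_surjective _ h
    simpa using this
  · have h : Function.Injective fun m : Fin 81 =>
        (⟨F (m.1 % 9) (m.1 / 9 % 3) (m.1 / 27), F_mem _ _ _⟩ : K3) := by
      intro m m' hm
      have h1 : F (m.1 % 9) (m.1 / 9 % 3) (m.1 / 27) = F (m'.1 % 9) (m'.1 / 9 % 3) (m'.1 / 27) :=
        congrArg Subtype.val hm
      have h2 : lin (cf m.1) = lin (cf m'.1) := by rw [← ap_F, ← ap_F, h1]
      have hl : ∀ m : Fin 81, cf m.1 = T3[m.1]'(by rw [T3_length]; exact m.2) := by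
        intro m
        rw [cf_eq m]
        exact List.getD_eq_getElem _ _ _
      have hlt : ∀ m : Fin 81, cf m.1 < 8 ^ 64 := by
        intro m
        rw [hl m]
        exact T3_lt _ (List.getElem_mem _)
      have h3 := lin_inj (hlt m) (hlt m') h2
      rw [hl m, hl m'] at h3
      exact Fin.ext ((T3_nodup.getElem_inj_iff).mp h3)
    have := Nat.card_le_card_of_injective _ h
    simpa using this

end Cfsg.Agent.H379.TD
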