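import Cfsg.Agent.H379.TD.Elt

/-!
# The 3-elements of `³D₄(2)` on the natural module
-/

set_option autoImplicit false

namespace Cfsg.Agent.H379.TD

open Cfsg.Agent.TypeD4Two Module

/-- word of an element of order 9 -/
def wx : List ℕ := [2, 1, 0]
/-- word of the central involution -/
def wz : List ℕ := [3, 2, 3, 2, 3, 2, 3, 2]
/-- word of the longest element -/
def ww : List ℕ := [2, 4, 2, 4, 2, 4]
/-- word of an element of order 3 -/
def wx0 : List ℕ := wz ++ ww ++ wz ++ ww
/-- word of a conjugating element -/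
def wg : List ℕ := [4, 1, 4, 1, 0, 1, 2, 3]
/-- word of a conjugate of `x0` -/
def wy : List ℕ := wg ++ wx0 ++ wi wg

/-- element of order 9 -/
def x : M := wm wx
/-- element of order 3 with four-dimensional fixed space -/
def x0 : M := wm wx0
/-- conjugate of `x0` -/
def y : M := wm wy

theorem y_eq : y = wm wg * x0 * (wm wg)⁻¹ := by
  rw [y, wy, wm_append, wm_append, wm_wi]
  rfl

theorem x_pow : x ^ 9 = 1 := by
  rw [x, ← wm_wp]; exact wm_one (by decide +kernel)

theorem x0_pow : x0 ^ 3 = 1 := by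
  rw [x0, ← wm_wp]; exact wm_one (by decide +kernel)

theorem y_pow : y ^ 3 = 1 := by
  have h : y = MulAut.conj (wm wg) x0 := y_eq
  rw [h, ← map_pow, x0_pow, map_one]

theorem x_x0 : x * x0 = x0 * x := by
  rw [x, x0, ← wm_append, ← wm_append]; exact wm_eq (by decide +kernel)

theorem y_x : y * x = x ^ 4 * x0 ^ 2 * y := by
  rw [x, x0, y]
  simp only [← wm_wp, ← wm_append]
  exact wm_eq (by decide +kernel)

theorem y_x0 : y * x0 = x ^ 3 * x0 * y := by
  rw [x, x0, y]
  simp only [← wm_wp, ← wm_append]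
  exact wm_eq (by decide +kernel)

/-- the fixed space of `w` -/
def fixS (f : Module.End F8 V) : Submodule F8 V := LinearMap.ker (f + 1)

theorem mem_fixS {f : Module.End F8 V} {v : V} : v ∈ fixS f ↔ f v = v := by
  constructor
  · intro h
    exact eq_of_add (LinearMap.mem_ker.mp h)
  · intro h
    show f v + v = 0
    rw [h, W_add_self]

/-- entry of a coded matrix -/
def ent (c : ℕ) (i j : Fin 8) : F8 := F8.ofN (Nat.shiftRight c (3 * (8 * i.1 + j.1)))

theorem two_of_cert {c S K : ℕ} (h : sumC c 3 = mulC S K) (hS' : ∀ i j : Fin 8, 2 ≤ j.1 → ent S i j = 0) :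
    finrank F8 (fixS (lin c)) ≤ 2 := by
  have hS : ∀ i j : Fin 8, 2 ≤ j.1 → dec S i j = 0 := hS'
  have hle : fixS (lin c) ≤ Submodule.span F8 ({col S 0, col S 1} : Finset V) := by
    intro v hv
    have h1 := sum_fix (mem_fixS.mp hv) (n := 3) (by decide)
    rw [← lin_sumC, h, lin_mulC, Module.End.mul_apply] at h1
    rw [← h1]
    set u := lin K v with hu
    have h2 : lin S u = u 0 • col S 0 + u 1 • col S 1 := by
      funext i
      show (dec S).mulVec u i = _
      rw [Matrix.mulVec, dotProduct, Fin.sum_univ_eight]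
      rw [hS i 2 (by decide), hS i 3 (by decide), hS i 4 (by decide), hS i 5 (by decide), hS i 6 (by decide),
        hS i 7 (by decide)]
      simp only [zero_mul, add_zero, Pi.add_apply, Pi.smul_apply, smul_eq_mul, col]
      ring
    rw [h2]
    refine Submodule.add_mem _ (Submodule.smul_mem _ _ (Submodule.subset_span ?_))
      (Submodule.smul_mem _ _ (Submodule.subset_span ?_))
    · simp
    · simp
  refine (Submodule.finrank_mono hle).trans ((finrank_span_finset_le_card _).trans ?_)
  exact Finset.card_le_two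

/-- The property of 3-elements used below. -/
def Prop3 (w : M) : Prop := (∀ v, ap w v = v → v = 0) ∨ (w ^ 3 = 1 ∧
  ∀ u : M, Commute u w → (∃ k, u ^ (2 ^ k) = 1) → ∀ v, ap w v = v → ap u (ap u v) = v)

theorem ap_commute {u w : M} (h : Commute u w) (v : V) : ap u (ap w v) = ap w (ap u v) := by
  rw [← ap_mul, h.eq, ap_mul]

theorem prop3_of_cert {w : List ℕ} {S K : ℕ} (hw : wm w ^ 3 = 1) (h : sumC (wv w) 3 = mulC S K)
    (hS : ∀ i j : Fin 8, 2 ≤ j.1 → ent S i j = 0) : Prop3 (wm w) := by
  right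
  refine ⟨hw, ?_⟩
  rintro u hu ⟨k, hk⟩ v hv
  have h2 := two_of_cert h hS
  refine sq_of_two (fixS (lin (wv w))) h2 (ap u) ?_ (k := k) ?_ v ?_
  · intro v hv
    rw [mem_fixS] at hv ⊢
    rw [← ap_wm] at hv ⊢
    rw [← ap_commute hu, hv]
  · rw [← ap_pow, hk]; rfl
  · rw [mem_fixS, ← ap_wm, hv]

theorem prop3_x3 : Prop3 (x ^ 3) := by
  rw [x, ← wm_wp]
  refine prop3_of_cert (S := 0x1800000300003f00000e000000000000) (K := 0x14200034040) ?_ (by decide +kernel)
    (by decide +kernel)
  rw [wm_wp, ← pow_mul]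
  exact x_pow

theorem xy_pow : (x * y) ^ 3 = 1 := by
  rw [x, y, ← wm_append, ← wm_wp]; exact wm_one (by decide +kernel)

theorem xxy_pow : (x ^ 2 * y) ^ 3 = 1 := by
  rw [x, y]
  simp only [← wm_wp, ← wm_append]
  exact wm_one (by decide +kernel)

theorem prop3_xy : Prop3 (x * y) := by
  have h := xy_pow
  rw [x, y, ← wm_append] at h ⊢
  exact prop3_of_cert (S := 0x3000000600000c000027000022000004000018000003) (K := 0xa3e5c8147ec1) h
    (by decide +kernel) (by decide +kernel)

theorem prop3_xxy : Prop3 (x ^ 2 * y) := by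
  have h := xxy_pow
  have e : x ^ 2 * y = wm (wp wx 2 ++ wy) := by rw [x, y, wm_append, wm_wp]
  rw [e] at h ⊢
  exact prop3_of_cert (S := 0x1000000200003800002d00003a000032000038000007) (K := 0xc09e0819ef81) h
    (by decide +kernel) (by decide +kernel)

/-- code of the projection -/
def pc : ℕ := 0x8000001000000200000040000000000000

set_option maxRecDepth 100000 in
theorem sum_x0 : sumC (wv wx0) 3 = pc := by decide +kernel

theorem lin_pc : ∀ v : V, lin pc v = ![0, 0, v 2, v 3, v 4, v 5, 0, 0] := by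
  intro v
  have h' : ∀ i j : Fin 8, ent pc i j = if i = j ∧ 2 ≤ i.1 ∧ i.1 ≤ 5 then 1 else 0 := by decide +kernel
  have h : ∀ i j : Fin 8, dec pc i j = if i = j ∧ 2 ≤ i.1 ∧ i.1 ≤ 5 then 1 else 0 := h'
  funext i
  show (dec pc).mulVec v i = _
  rw [Matrix.mulVec, dotProduct, Fin.sum_univ_eight]
  simp only [h]
  fin_cases i <;> simp

/-- An element of 2-power order commuting with `x0` has square 1. -/
theorem sq_x0 {u : M} (hu : Commute u x0) {k : ℕ} (hk : u ^ (2 ^ k) = 1) : ∀ v, ap u (ap u v) = v := by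
  set Y : Submodule F8 V := LinearMap.ker (lin pc) with hY
  have hYm : ∀ v, v ∈ Y ↔ lin pc v = 0 := fun v => LinearMap.mem_ker
  have hp : ∀ v, lin pc v = v + (ap x0 v + ap x0 (ap x0 v)) := by
    intro v
    rw [← sum_x0, lin_sumC, Finset.sum_range_succ, Finset.sum_range_succ, Finset.sum_range_one]
    rw [pow_zero, pow_one, pow_two, x0, ap_wm]
    show v + _ + _ = _
    rw [add_assoc]
    rfl
  have hcp : ∀ v, ap u (lin pc v) = lin pc (ap u v) := by
    intro v
    rw [hp, hp, map_add, map_add, ap_commute hu, ap_commute hu, ap_commute hu]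
  have hxp : ∀ v, ap x0 (lin pc v) = lin pc (ap x0 v) := by
    intro v
    rw [hp, hp, map_add, map_add]
  have hx3 : ∀ v, ap x0 (ap x0 (ap x0 v)) = v := by
    intro v
    rw [← ap_mul, ← ap_mul, ← pow_two, ← pow_succ, x0_pow, ap_one]
  have hfr : finrank F8 Y ≤ 4 := by
    have hle : Y ≤ Submodule.span F8 ({bs 0, bs 1, bs 6, bs 7} : Finset V) := by
      intro v hv
      rw [hYm, lin_pc] at hv
      have h2 : v 2 = 0 := congrFun hv 2
      have h3 : v 3 = 0 := congrFun hv 3
      have h4 : v 4 = 0 := congrFun hv 4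
      have h5 : v 5 = 0 := congrFun hv 5
      rw [eq_sum v, Fin.sum_univ_eight, h2, h3, h4, h5]
      simp only [zero_smul, add_zero]
      have hb : ∀ i ∈ ({0, 1, 6, 7} : Finset (Fin 8)),
          bs i ∈ Submodule.span F8 (({bs 0, bs 1, bs 6, bs 7} : Finset V) : Set V) := by
        intro i hi
        apply Submodule.subset_span
        fin_cases hi <;> simp
      exact Submodule.add_mem _ (Submodule.add_mem _ (Submodule.add_mem _
        (Submodule.smul_mem _ _ (hb 0 (by simp))) (Submodule.smul_mem _ _ (hb 1 (by simp))))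
        (Submodule.smul_mem _ _ (hb 6 (by simp)))) (Submodule.smul_mem _ _ (hb 7 (by simp)))
    refine (Submodule.finrank_mono hle).trans ((finrank_span_finset_le_card _).trans ?_)
    exact Finset.card_le_four
  have key := sq_of_four Y hfr (ap x0) (ap u)
    (by intro v hv; rw [hYm] at hv ⊢; rw [← hxp, hv, map_zero])
    (by intro v _; exact hx3 v)
    (by
      intro v hv h
      rw [hYm, hp, h, h, W_add_self, add_zero] at hv
      exact hv)
    (fun v => ap_commute hu v)
    (by intro v hv; rw [hYm] at hv ⊢; rw [← hcp, hv, map_zero])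
    (k := k) (by rw [← ap_pow, hk]; rfl)
  have hb : ∀ i ∈ ({0, 1, 6, 7} : Finset (Fin 8)), ap u (ap u (bs i)) = bs i := by
    intro i hi
    apply key
    rw [hYm, lin_pc]
    fin_cases hi <;> (funext j; fin_cases j <;> simp [bs])
  have hs : ∀ i j k : Fin 8, i ∈ ({0, 1, 6, 7} : Finset (Fin 8)) → j ∈ ({0, 1, 6, 7} : Finset (Fin 8)) →
      rT i j = some k → ap u (ap u (bs k)) = bs k := by
    intro i j k hi hj hk
    have h1 : star (bs i) (bs j) = bs k := by
      have := funext (star_bs i j)
      rw [hk] at this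
      exact this
    rw [← h1, ← ap_star, ← ap_star, hb i hi, hb j hj]
  have hall : ∀ i : Fin 8, ap u (ap u (bs i)) = bs i := by
    intro i
    fin_cases i
    · exact hb 0 (by simp)
    · exact hb 1 (by simp)
    · exact hs 6 0 2 (by simp) (by simp) (by decide +kernel)
    · exact hs 7 0 3 (by simp) (by simp) (by decide +kernel)
    · exact hs 6 1 4 (by simp) (by simp) (by decide +kernel)
    · exact hs 7 1 5 (by simp) (by simp) (by decide +kernel)
    · exact hb 6 (by simp)
    · exact hb 7 (by simp)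
  intro v
  rw [eq_sum v, map_sum, map_sum]
  apply Finset.sum_congr rfl
  intro i _
  rw [map_smul, map_smul, hall]

theorem prop3_x0 : Prop3 x0 := by
  right
  refine ⟨x0_pow, ?_⟩
  rintro u hu ⟨k, hk⟩ v _
  exact sq_x0 hu hk v

theorem Prop3.conj {w : M} (h : Prop3 w) (g : M) : Prop3 (g * w * g⁻¹) := by
  have hv : ∀ v, ap (g * w * g⁻¹) v = v → ap w (ap g⁻¹ v) = ap g⁻¹ v := by
    intro v hv
    have := congrArg (ap g⁻¹) hv
    rw [ap_mul, ap_mul, ap_inv_ap] at this
    exact this
  rcases h with h | ⟨h1, h2⟩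
  · left
    intro v hv'
    have h3 := h _ (hv v hv')
    rw [← ap_ap_inv g v, h3, map_zero]
  · right
    refine ⟨?_, ?_⟩
    · have : g * w * g⁻¹ = MulAut.conj g w := rfl
      rw [this, ← map_pow, h1, map_one]
    · rintro u hu ⟨k, hk⟩ v hv'
      have hc : Commute (g⁻¹ * u * g) w := by
        have := hu.eq
        unfold Commute SemiconjBy
        calc g⁻¹ * u * g * w = g⁻¹ * (u * (g * w * g⁻¹)) * g := by group
          _ = g⁻¹ * ((g * w * g⁻¹) * u) * g := by rw [this]
          _ = w * (g⁻¹ * u * g) := by group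
      have hp : (g⁻¹ * u * g) ^ (2 ^ k) = 1 := by
        have h3 : g⁻¹ * u * g = MulAut.conj g⁻¹ u := by simp
        rw [h3, ← map_pow, hk, map_one]
      have h4 := h2 _ hc ⟨k, hp⟩ _ (hv v hv')
      have h5 := congrArg (ap g) h4
      rw [ap_ap_inv, ← ap_mul, ← ap_mul, ← ap_mul] at h5
      have h6 : g * (g⁻¹ * u * g) * (g⁻¹ * u * g) * g⁻¹ = u * u := by group
      rw [h6, ap_mul] at h5
      exact h5

theorem fix_inv {w : M} {v : V} : ap w⁻¹ v = v ↔ ap w v = v := by
  constructor
  · intro h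
    have := congrArg (ap w) h
    rw [ap_ap_inv] at this
    exact this.symm
  · intro h
    have := congrArg (ap w⁻¹) h
    rw [ap_inv_ap] at this
    exact this.symm

theorem Prop3.inv {w : M} (h : Prop3 w) : Prop3 w⁻¹ := by
  rcases h with h | ⟨h1, h2⟩
  · left
    intro v hv
    exact h v (fix_inv.mp hv)
  · right
    refine ⟨by rw [inv_pow, h1, inv_one], ?_⟩
    intro u hu hk v hv
    exact h2 u (by simpa using hu.inv_right) hk v (fix_inv.mp hv)

end Cfsg.Agent.H379.TD
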