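import Cfsg.Agent.H379.TD.Seven

/-!
# The 2-elements of `³D₄(2)` on the natural module: `(u - 1)⁷ = 0`
-/

set_option autoImplicit false

namespace Cfsg.Agent.H379.TD

open Cfsg.Agent.TypeD4Two Module

/-- vanishing of the coordinates from `k` on -/
def Z (k : ℕ) (v : V) : Prop := ∀ j : Fin 8, k ≤ j.1 → v j = 0

/-- next flag member -/
def nx : ℕ → ℕ
  | 0 => 0
  | 1 => 0
  | 2 => 1
  | 3 => 2
  | 4 => 3
  | 5 => 3
  | 6 => 5
  | 7 => 6
  | 8 => 7
  | n => n

/-- unipotent with respect to the flag -/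
def Upper (f : Module.End F8 V) : Prop := ∀ k ≤ 8, ∀ v, Z k v → Z (nx k) (f v + v)

theorem nx_le : ∀ k ≤ 8, nx k ≤ k := by decide

theorem Z.add {k : ℕ} {v w : V} (hv : Z k v) (hw : Z k w) : Z k (v + w) := by
  intro j hj
  rw [Pi.add_apply, hv j hj, hw j hj, add_zero]

theorem Z.mono {k l : ℕ} (h : k ≤ l) {v : V} (hv : Z k v) : Z l v := fun j hj => hv j (h.trans hj)

theorem Upper.mul {f g : Module.End F8 V} (hf : Upper f) (hg : Upper g) : Upper (f * g) := by
  intro k hk v hv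
  have h1 := hg k hk v hv
  have h2 : Z k (g v) := by
    have h3 : g v = (g v + v) + v := by rw [add_assoc, W_add_self, add_zero]
    rw [h3]
    exact (h1.mono (nx_le k hk)).add hv
  have h4 := hf k hk _ h2
  have h5 : (f * g) v + v = (f (g v) + g v) + (g v + v) := by
    rw [Module.End.mul_apply]
    have : f (g v) + g v + (g v + v) = f (g v) + (g v + g v) + v := by abel
    rw [this, W_add_self, add_zero]
  rw [h5]
  exact h4.add h1

/-- the Sylow 2-subgroup -/
def K2 : Subgroup M where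
  carrier := {g | Upper (ap g) ∧ Upper (ap g⁻¹)}
  one_mem' := by
    have h : Upper (1 : Module.End F8 V) := by
      intro k _ v _ j _
      show v j + v j = 0
      exact F8_add_self _
    constructor
    · exact h
    · show Upper (ap (1⁻¹ : M))
      rw [inv_one]
      exact h
  mul_mem' := by
    rintro g h ⟨hg, hg'⟩ ⟨hh, hh'⟩
    constructor
    · exact hg.mul hh
    · rw [mul_inv_rev]
      exact hh'.mul hg'
  inv_mem' := by
    rintro g ⟨hg, hg'⟩
    exact ⟨hg', by rwa [inv_inv]⟩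

/-- the code is unipotent with respect to the flag -/
def UpC (c : ℕ) : Prop := (∀ i j : Fin 8, (i = j → ent c i j = 1) ∧ (j < i → ent c i j = 0)) ∧ ent c 3 4 = 0

instance (c : ℕ) : Decidable (UpC c) := by unfold UpC; infer_instance

theorem nx_spec : ∀ k : Fin 9, ∀ i j : Fin 8, nx k.1 ≤ i.1 → i < j → j.1 < k.1 → i = 3 ∧ j = 4 := by decide

theorem UpC.upper {c : ℕ} (h : UpC c) : Upper (lin c) := by
  intro k hk v hv i hi
  have key : (lin c v) i = v i := by
    show (dec c).mulVec v i = v i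
    rw [Matrix.mulVec, dotProduct]
    rw [Finset.sum_eq_single i]
    · have : dec c i i = 1 := (h.1 i i).1 rfl
      rw [this, one_mul]
    · intro j _ hj
      rcases lt_or_gt_of_ne hj with hlt | hgt
      · have : dec c i j = 0 := (h.1 i j).2 hlt
        rw [this, zero_mul]
      · by_cases hjk : j.1 < k
        · obtain ⟨rfl, rfl⟩ := nx_spec ⟨k, by omega⟩ i j hi hgt hjk
          have : dec c 3 4 = 0 := h.2
          rw [this, zero_mul]
        · rw [hv j (by omega), mul_zero]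
    · intro h; exact absurd (Finset.mem_univ i) h
  show (lin c v) i + v i = 0
  rw [key]
  exact F8_add_self _

theorem mem_K2 {l : List ℕ} (h : UpC (wv l)) (h2 : wv (l ++ l) = oneC) : wm l ∈ K2 := by
  have h3 : (wm l)⁻¹ = wm l := by
    rw [inv_eq_iff_mul_eq_one, ← wm_append]
    exact wm_one h2
  have h4 : Upper (ap (wm l)) := by rw [ap_wm]; exact h.upper
  refine ⟨h4, ?_⟩
  rw [h3]
  exact h4

theorem Upper.pow_seven {f : Module.End F8 V} (h : Upper f) : (f + 1) ^ 7 = 0 := by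
  apply LinearMap.ext
  intro v
  have h8 : Z 8 v := by
    intro j hj
    exact absurd j.2 (by omega)
  have step : ∀ k ≤ 8, ∀ v, Z k v → Z (nx k) ((f + 1) v) := fun k hk v hv => h k hk v hv
  have e : ((f + 1 : Module.End F8 V) ^ 7) v =
      (f + 1) ((f + 1) ((f + 1) ((f + 1) ((f + 1) ((f + 1) ((f + 1) v)))))) := by
    simp only [pow_succ', pow_zero, Module.End.mul_apply, Module.End.one_apply]
  have h7 := step 8 (by norm_num) _ h8
  have h6 := step 7 (by norm_num) _ h7
  have h5 := step 6 (by norm_num) _ h6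
  have h3 := step 5 (by norm_num) _ h5
  have h2 := step 3 (by norm_num) _ h3
  have h1 := step 2 (by norm_num) _ h2
  have h0 := step 1 (by norm_num) _ h1
  rw [e]
  funext j
  exact h0 j (Nat.zero_le _)

/-- the word of the root element `X_A(s k)` -/
def wX (k : ℕ) : List ℕ := if k = 0 then [] else wp [0] k ++ [1] ++ wp [5] k

/-- parameter of a root element -/
def sA (k : Fin 8) : F8 := ent (wv (wX k.1)) 0 1

theorem sA_inj : ∀ k k' : Fin 8, sA k = sA k' → k = k' := by decide +kernel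

/-- entries of the root element -/
def EX (s : F8) (i j : Fin 8) : F8 :=
  if i = j then 1
  else if i = 0 ∧ j = 1 then s
  else if i = 2 ∧ j = 3 then sq s
  else if i = 2 ∧ j = 4 then sq (sq s)
  else if i = 2 ∧ j = 5 then sq s * sq (sq s)
  else if i = 3 ∧ j = 5 then sq (sq s)
  else if i = 4 ∧ j = 5 then sq s
  else if i = 6 ∧ j = 7 then s
  else 0

theorem ent_wX : ∀ k i j : Fin 8, ent (wv (wX k.1)) i j = EX (sA k) i j := by decide +kernel

/-- action of the root element -/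
def fX (s : F8) (v : V) : V :=
  ![v 0 + s * v 1, v 1, v 2 + sq s * v 3 + sq (sq s) * v 4 + sq s * sq (sq s) * v 5, v 3 + sq (sq s) * v 5,
    v 4 + sq s * v 5, v 5, v 6 + s * v 7, v 7]

theorem ap_wX (k : Fin 8) (v : V) : ap (wm (wX k.1)) v = fX (sA k) v := by
  rw [ap_wm]
  have h : ∀ i j : Fin 8, dec (wv (wX k.1)) i j = EX (sA k) i j := ent_wX k
  funext i
  show (dec (wv (wX k.1))).mulVec v i = _
  rw [Matrix.mulVec, dotProduct, Fin.sum_univ_eight]
  simp only [h]
  fin_cases i <;> simp [EX, fX]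

/-- action of `t` -/
def ft (v : V) : V := ![v 0, v 2, v 1, v 3, v 4, v 6, v 5, v 7]
/-- action of `n` -/
def fn (v : V) : V := ![v 1, v 0, v 5, v 4, v 3, v 2, v 7, v 6]
/-- action of `a` -/
def fa (v : V) : V := ![v 0 + v 5, v 1, v 2 + v 7, v 3, v 4, v 5, v 6, v 7]
/-- action of `z` -/
def fz (v : V) : V := ![v 0 + v 6, v 1 + v 7, v 2, v 3, v 4, v 5, v 6, v 7]
/-- action of the simple long root element -/
def fb (v : V) : V := ![v 0, v 1 + v 2, v 2, v 3, v 4, v 5 + v 6, v 6, v 7]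

theorem ap_of_table {l : List ℕ} {f : V → V} (E : Fin 8 → Fin 8 → F8) (h : ∀ i j, ent (wv l) i j = E i j)
    (hf : ∀ v i, ∑ j, E i j * v j = f v i) (v : V) : ap (wm l) v = f v := by
  rw [ap_wm]
  funext i
  show (dec (wv l)).mulVec v i = _
  rw [Matrix.mulVec, dotProduct, ← hf]
  exact Finset.sum_congr rfl fun j _ => congrArg (· * v j) (h i j)

theorem ap_t (v : V) : ap (wm [4]) v = ft v := by
  refine ap_of_table (fun i j => if j = (![0, 2, 1, 3, 4, 6, 5, 7] : Fin 8 → Fin 8) i then 1 else 0)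
    (by decide +kernel) ?_ v
  intro v i
  simp only [ite_mul, one_mul, zero_mul, Finset.sum_ite_eq', Finset.mem_univ, if_true]
  fin_cases i <;> rfl

theorem ap_n (v : V) : ap (wm [2]) v = fn v := by
  refine ap_of_table (fun i j => if j = (![1, 0, 5, 4, 3, 2, 7, 6] : Fin 8 → Fin 8) i then 1 else 0)
    (by decide +kernel) ?_ v
  intro v i
  simp only [ite_mul, one_mul, zero_mul, Finset.sum_ite_eq', Finset.mem_univ, if_true]
  fin_cases i <;> rfl

theorem ap_a (v : V) : ap (wm [3]) v = fa v := by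
  refine ap_of_table (fun i j => if i = j then 1 else if (i = 0 ∧ j = 5) ∨ (i = 2 ∧ j = 7) then 1 else 0)
    (by decide +kernel) ?_ v
  intro v i
  rw [Fin.sum_univ_eight]
  fin_cases i <;> simp [fa]

theorem ap_z (v : V) : ap (wm wz) v = fz v := by
  refine ap_of_table (fun i j => if i = j then 1 else if (i = 0 ∧ j = 6) ∨ (i = 1 ∧ j = 7) then 1 else 0)
    (by decide +kernel) ?_ v
  intro v i
  rw [Fin.sum_univ_eight]
  fin_cases i <;> simp [fz]

theorem ap_b (v : V) : ap (wm [2, 3, 2]) v = fb v := by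
  refine ap_of_table (fun i j => if i = j then 1 else if (i = 1 ∧ j = 2) ∨ (i = 5 ∧ j = 6) then 1 else 0)
    (by decide +kernel) ?_ v
  intro v i
  rw [Fin.sum_univ_eight]
  fin_cases i <;> simp [fb]

/-- conditional word -/
def wc (b : Bool) (l : List ℕ) : List ℕ := if b then l else []

/-- bit -/
def bt (b : Bool) : F8 := if b then 1 else 0

theorem bt_inj : ∀ b b' : Bool, bt b = bt b' → b = b' := by decide +kernel

theorem wX_mem : ∀ k : Fin 8, wm (wX k.1) ∈ K2 := by
  have h : ∀ k : Fin 8, UpC (wv (wX k.1)) ∧ wv (wX k.1 ++ wX k.1) = oneC := by decide +kernel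
  exact fun k => mem_K2 (h k).1 (h k).2

theorem tX_mem : ∀ k : Fin 8, wm ([4] ++ wX k.1 ++ [4]) ∈ K2 := by
  have h : ∀ k : Fin 8, UpC (wv ([4] ++ wX k.1 ++ [4])) ∧
      wv (([4] ++ wX k.1 ++ [4]) ++ ([4] ++ wX k.1 ++ [4])) = oneC := by decide +kernel
  exact fun k => mem_K2 (h k).1 (h k).2

theorem ntX_mem : ∀ k : Fin 8, wm ([2, 4] ++ wX k.1 ++ [4, 2]) ∈ K2 := by
  have h : ∀ k : Fin 8, UpC (wv ([2, 4] ++ wX k.1 ++ [4, 2])) ∧
      wv (([2, 4] ++ wX k.1 ++ [4, 2]) ++ ([2, 4] ++ wX k.1 ++ [4, 2])) = oneC := by decide +kernel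
  exact fun k => mem_K2 (h k).1 (h k).2

theorem a_mem (b : Bool) : wm (wc b [3]) ∈ K2 := by
  cases b
  · exact K2.one_mem
  · exact mem_K2 (by decide +kernel) (by decide +kernel)

theorem z_mem (b : Bool) : wm (wc b wz) ∈ K2 := by
  cases b
  · exact K2.one_mem
  · exact mem_K2 (by decide +kernel) (by decide +kernel)

theorem b_mem (b : Bool) : wm (wc b [2, 3, 2]) ∈ K2 := by
  cases b
  · exact K2.one_mem
  · exact mem_K2 (by decide +kernel) (by decide +kernel)

/-- elements of the Sylow 2-subgroup without the simple long root part -/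
def gG (a c s : Fin 8) (e f : Bool) : M :=
  wm (wX a.1) * (wm ([4] ++ wX c.1 ++ [4]) * (wm ([2, 4] ++ wX s.1 ++ [4, 2]) * (wm (wc e [3]) * wm (wc f wz))))

theorem gG_mem (a c s : Fin 8) (e f : Bool) : gG a c s e f ∈ K2 :=
  K2.mul_mem (wX_mem a) (K2.mul_mem (tX_mem c) (K2.mul_mem (ntX_mem s) (K2.mul_mem (a_mem e) (z_mem f))))

theorem ap_append (l l' : List ℕ) (v : V) : ap (wm (l ++ l')) v = ap (wm l) (ap (wm l') v) := by
  rw [wm_append, ap_mul]

theorem ap_gG (a c s : Fin 8) (e f : Bool) : ap (gG a c s e f) (bs 7) =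
    ![sq (sA s) * sq (sq (sA s)) + sA c * bt e + sA a * (bt f + sq (sA c) * sq (sA s) + sq (sq (sA c)) * sq (sq (sA s))),
      bt f + sq (sA c) * sq (sA s) + sq (sq (sA c)) * sq (sq (sA s)),
      bt e + sq (sA a) * sq (sA s) + sq (sq (sA a)) * sq (sq (sA s)) + sq (sA a) * sq (sq (sA a)) * sA c,
      sq (sA s) + sq (sq (sA a)) * sA c,
      sq (sq (sA s)) + sq (sA a) * sA c,
      sA c, sA a, 1] := by
  have h1 : ap (wm (wc f wz)) (bs 7) = ![0, bt f, 0, 0, 0, 0, 0, 1] := by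
    cases f
    · show bs 7 = _
      funext j; fin_cases j <;> simp [bs, bt]
    · show ap (wm wz) (bs 7) = _
      rw [ap_z]
      funext j; fin_cases j <;> simp [bs, bt, fz]
  have h2 : ap (wm (wc e [3])) ![0, bt f, 0, 0, 0, 0, 0, 1] = ![0, bt f, bt e, 0, 0, 0, 0, 1] := by
    cases e
    · show ![0, bt f, 0, 0, 0, 0, 0, 1] = _
      funext j; fin_cases j <;> simp [bt]
    · show ap (wm [3]) _ = _
      rw [ap_a]
      funext j; fin_cases j <;> simp [bt, fa]
  have e42 : ([4, 2] : List ℕ) = [4] ++ [2] := rfl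
  have e24 : ([2, 4] : List ℕ) = [2] ++ [4] := rfl
  simp only [gG, ap_mul, h1, h2, ap_append, e42, e24, ap_n, ap_t, ap_wX]
  funext j
  fin_cases j <;> simp [fn, ft, fX]

theorem sq_inj : ∀ x y : F8, sq x = sq y → x = y := by decide +kernel

theorem gG_inj {a c s a' c' s' : Fin 8} {e f e' f' : Bool}
    (h : ap (gG a c s e f) (bs 7) = ap (gG a' c' s' e' f') (bs 7)) :
    a = a' ∧ c = c' ∧ s = s' ∧ e = e' ∧ f = f' := by
  rw [ap_gG, ap_gG] at h
  have h6 : sA a = sA a' := congrFun h 6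
  have h5 : sA c = sA c' := congrFun h 5
  obtain rfl := sA_inj _ _ h6
  obtain rfl := sA_inj _ _ h5
  have h3 : sq (sA s) + sq (sq (sA a)) * sA c = sq (sA s') + sq (sq (sA a)) * sA c := congrFun h 3
  obtain rfl := sA_inj _ _ (sq_inj _ _ (add_right_cancel h3))
  have h2 : bt e + sq (sA a) * sq (sA s) + sq (sq (sA a)) * sq (sq (sA s)) + sq (sA a) * sq (sq (sA a)) * sA c =
      bt e' + sq (sA a) * sq (sA s) + sq (sq (sA a)) * sq (sq (sA s)) + sq (sA a) * sq (sq (sA a)) * sA c :=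
    congrFun h 2
  obtain rfl := bt_inj _ _ (add_right_cancel (add_right_cancel (add_right_cancel h2)))
  have h1 : bt f + sq (sA c) * sq (sA s) + sq (sq (sA c)) * sq (sq (sA s)) =
      bt f' + sq (sA c) * sq (sA s) + sq (sq (sA c)) * sq (sq (sA s)) := congrFun h 1
  obtain rfl := bt_inj _ _ (add_right_cancel (add_right_cancel h1))
  exact ⟨rfl, rfl, rfl, rfl, rfl⟩

theorem ap_wb (b : Bool) : ap (wm (wc b [2, 3, 2])) (bs 7) = bs 7 := by
  cases b
  · rfl
  · show ap (wm [2, 3, 2]) (bs 7) = _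
    rw [ap_b]
    funext j; fin_cases j <;> simp [bs, fb]

theorem b_ne : wm [2, 3, 2] ≠ 1 := by
  intro h
  have h1 := ap_b (bs 2)
  rw [h, ap_one] at h1
  have h2 := congrFun h1 1
  simp [bs, fb] at h2

theorem K2_pow {g : M} (hg : g ∈ K2) : g ^ 8 = 1 := by
  have h7 := hg.1.pow_seven
  have h8 : (ap g + 1) ^ (2 ^ 3) = 0 := by
    show (ap g + 1) ^ (7 + 1) = 0
    rw [pow_succ, h7, zero_mul]
  rw [add_one_pow two_End] at h8
  apply ap_injective
  intro v
  have h9 := congrArg (fun f : Module.End F8 V => f v) h8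
  have h10 : (ap g ^ (2 ^ 3)) v + v = 0 := h9
  rw [ap_pow, ap_one]
  exact eq_of_add h10

theorem card_K2 : Nat.card K2 = 2 ^ 12 := by
  have : Fact (Nat.Prime 2) := ⟨Nat.prime_two⟩
  have hp : IsPGroup 2 K2 := by
    intro g
    exact ⟨3, Subtype.ext (K2_pow g.2)⟩
  obtain ⟨n, hn⟩ := IsPGroup.iff_card.mp hp
  have h1 : 2 ^ n ∣ 211341312 := by
    rw [← hn, ← card_M]
    exact Subgroup.card_subgroup_dvd_card K2
  have h2 : n ≤ 12 := by
    by_contra h
    have h3 : 2 ^ 13 ∣ 211341312 := (Nat.pow_dvd_pow 2 (by omega : 13 ≤ n)).trans h1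
    revert h3
    norm_num
  have hinj : Function.Injective fun p : (Fin 8 × Fin 8 × Fin 8) × Bool × Bool × Bool =>
      (⟨gG p.1.1 p.1.2.1 p.1.2.2 p.2.1 p.2.2.1 * wm (wc p.2.2.2 [2, 3, 2]),
        K2.mul_mem (gG_mem _ _ _ _ _) (b_mem _)⟩ : K2) := by
    rintro ⟨⟨a, c, s⟩, e, f, b⟩ ⟨⟨a', c', s'⟩, e', f', b'⟩ h
    have h3 : gG a c s e f * wm (wc b [2, 3, 2]) = gG a' c' s' e' f' * wm (wc b' [2, 3, 2]) :=
      congrArg Subtype.val h
    have h4 := congrArg (fun g => ap g (bs 7)) h3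
    simp only [ap_mul, ap_wb] at h4
    obtain ⟨rfl, rfl, rfl, rfl, rfl⟩ := gG_inj h4
    have h5 := mul_left_cancel h3
    have h6 : b = b' := by
      cases b <;> cases b'
      · rfl
      · exact absurd h5.symm b_ne
      · exact absurd h5 b_ne
      · rfl
    rw [h6]
  have h4 := Nat.card_le_card_of_injective _ hinj
  rw [hn] at h4
  have h5 : Nat.card ((Fin 8 × Fin 8 × Fin 8) × Bool × Bool × Bool) = 2 ^ 12 := by
    simp
  rw [h5] at h4
  have h6 : 12 ≤ n := (Nat.pow_le_pow_iff_right (by norm_num)).mp h4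
  rw [hn, le_antisymm h2 h6]

/-- All 2-elements. -/
theorem two_all {w : M} {k : ℕ} (hk : w ^ (2 ^ k) = 1) : (ap w + 1) ^ 7 = 0 ∧ w ^ 8 = 1 := by
  have : Fact (Nat.Prime 2) := ⟨Nat.prime_two⟩
  obtain ⟨g, hg⟩ := conj_mem (p := 2) K2 card_K2 (by rw [card_M]; norm_num) hk
  have h7 := hg.1.pow_seven
  have h8 := K2_pow hg
  constructor
  · have key : ∀ n : ℕ, ∀ v, ((ap (g * w * g⁻¹) + 1) ^ n) (ap g v) = ap g (((ap w + 1) ^ n) v) := by
      intro n
      induction n with
      | zero => intro v; rfl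
      | succ n ih =>
        intro v
        rw [pow_succ, pow_succ, Module.End.mul_apply, Module.End.mul_apply, ← ih]
        congr 1
        show ap (g * w * g⁻¹) (ap g v) + ap g v = ap g (ap w v + v)
        rw [ap_mul, ap_mul, ap_inv_ap, map_add]
    apply LinearMap.ext
    intro v
    have h9 := key 7 v
    rw [h7] at h9
    have h10 := congrArg (ap g⁻¹) h9
    rw [ap_inv_ap] at h10
    rw [← h10]
    exact map_zero _
  · have h6 : g * w * g⁻¹ = MulAut.conj g w := rfl
    rw [h6, ← map_pow] at h8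
    exact (MulEquiv.map_eq_one_iff _).mp h8

end Cfsg.Agent.H379.TD
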